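import Groth.Agent.BirSp.EtaleBC
import Groth.Agent.BirLib.Basic
import Groth.Agent.AlgSp.SchImageRep
import Groth.Agent.S10197
import Groth.Agent.AlgSpB.OpenGlue
import Groth.Agent.AlgSpCov.LocPBasic

/-!
# Birational morphisms are isomorphisms over dense open subschemes
-/

universe u

open CategoryTheory CategoryTheory.Limits AlgebraicGeometry TopologicalSpace

set_option autoImplicit false
set_option linter.style.haveILetI false
set_option backward.isDefEq.respectTransparency false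

namespace Groth.Agent.BirSp

open Groth.Agent

variable {S : Scheme.{u}}

theorem range_ofPt_comp {F G : AlgSp.Sp S} {U : Over S} (a : (AlgSp.yon S).obj U ⟶ F) (h : F ⟶ G) :
    Set.range (AlgSp.Points.ofPt (a ≫ h)) ⊆ Set.range (AlgSp.Points.map h) := by
  rintro _ ⟨t, rfl⟩
  exact ⟨AlgSp.Points.ofPt a t, AlgSp.Points.map_ofPt _ _ _⟩

theorem repWith_of_comp_mono {P : MorphismProperty Scheme.{u}} [P.IsStableUnderBaseChange] {A B F : AlgSp.Sp S}
    {i : A ⟶ B} {a : B ⟶ F} [Mono a] {c : A ⟶ F} (h : i ≫ a = c) (hc : AlgSp.RepWith P c) :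
    AlgSp.RepWith P i := by
  refine MorphismProperty.of_isPullback (P := AlgSp.RepWith P) (f := a) (g := c) (f' := 𝟙 A) ?_ hc
  refine IsPullback.of_isLimit' ⟨by rw [Category.id_comp, h]⟩ (PullbackCone.IsLimit.mk _ (fun s => s.fst)
    (fun s => Category.comp_id _) (fun s => ?_) fun s m h1 _ => by simpa using h1)
  rw [← cancel_mono a, Category.assoc, h, s.condition]

/-- The schematic locus as a single chart. -/
theorem exists_schematic (X : AlgSp.Space S) : ∃ (U : Over S) (a : (AlgSp.yon S).obj U ⟶ X.obj),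
    AlgSp.RepWith @IsOpenImmersion a ∧ ∀ (W : Over S) (c : (AlgSp.yon S).obj W ⟶ X.obj),
      AlgSp.RepWith @IsOpenImmersion c → Set.range (AlgSp.Points.ofPt c) ⊆ Set.range (AlgSp.Points.ofPt a) := by
  obtain ⟨X', j, hj, hrep, hmax⟩ := S10197.result X
  obtain ⟨U, ⟨e⟩⟩ := AlgSpB.exists_iso_of_isRepresentable hrep
  refine ⟨U, e.hom ≫ j.hom, (MorphismProperty.cancel_left_of_respectsIso (AlgSp.RepWith @IsOpenImmersion) _ _).2 hj,
    fun W c hc => ?_⟩
  obtain ⟨k, hk⟩ := hmax ⟨_, AlgSp.IsAlgSpace.yon_obj W⟩ (ObjectProperty.homMk c) hc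
    (AlgSpB.isRepresentable_of_iso (Iso.refl _))
  have hc' : c = k.hom ≫ j.hom := (congrArg (fun m => m.hom) hk).symm
  rintro _ ⟨t, rfl⟩
  refine ⟨AlgSp.Points.toScheme U (AlgSp.Points.map e.inv (AlgSp.Points.ofPt k.hom t)), ?_⟩
  rw [AlgSp.Points.ofPt_eq_map_ofScheme, AlgSp.Points.ofScheme_toScheme, ← AlgSp.Points.map_comp,
    Iso.inv_hom_id_assoc, AlgSp.Points.map_ofPt, hc']

theorem components_iff {U : Scheme.{u}} (z : ↥U) :
    closure {z} ∈ irreducibleComponents ↥U ↔ ∀ w : ↥U, w ⤳ z → w = z := by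
  rw [FlatMor.GenericPts.closure_mem_irreducibleComponents_iff]
  exact ⟨fun h w hw => (hw.antisymm (h w hw)).eq, fun h w hw => specializes_of_eq (h w hw).symm⟩

theorem exists_dense_iso {X Y : AlgSp.Space S} (f : X ⟶ Y) (hX : AlgSp.IsDecent X.obj) (hY : AlgSp.IsDecent Y.obj)
    (hXf : (irreducibleComponents (AlgSp.Points X.obj)).Finite)
    (hYf : (irreducibleComponents (AlgSp.Points Y.obj)).Finite)
    (hf : W4stk3decentspacesp2.IsBirational f.hom)
    (h : (AlgSp.LocP @LocallyOfFiniteType f.hom ∧ AlgSp.EtaleLocally (fun T => IsReduced T) Y.obj) ∨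
      AlgSp.LocP @LocallyOfFinitePresentation f.hom) :
    ∃ (U V : Over S) (a : (AlgSp.yon S).obj U ⟶ X.obj) (b : (AlgSp.yon S).obj V ⟶ Y.obj) (g : U ⟶ V),
      AlgSp.RepWith @IsOpenImmersion a ∧ AlgSp.RepWith @IsOpenImmersion b ∧
        Dense (Set.range (AlgSp.Points.ofPt a)) ∧ Dense (Set.range (AlgSp.Points.ofPt b)) ∧
          a ≫ f.hom = (AlgSp.yon S).map g ≫ b ∧ IsIso g.left ∧
          (∀ x ∈ genericPoints (AlgSp.Points X.obj), x ∈ Set.range (AlgSp.Points.ofPt a)) := by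
  have := S10338.result X hX
  have := S10338.result Y hY
  obtain ⟨U₀, a₀, ha₀, hmaxX⟩ := exists_schematic X
  obtain ⟨V₀, b₀, hb₀, hmaxY⟩ := exists_schematic Y
  have hb₀e := etale_of_open hb₀
  let O : U₀.left.Opens := ⟨AlgSp.Points.ofPt (a₀ ≫ f.hom) ⁻¹' Set.range (AlgSp.Points.ofPt b₀),
    (AlgSpB.isOpenMap_ofPt hb₀e).isOpen_range.preimage (AlgSp.Points.continuous_ofPt _)⟩
  let U : Over S := Over.mk (O.ι ≫ U₀.hom)
  let o : U ⟶ U₀ := Over.homMk O.ι rfl
  let a := (AlgSp.yon S).map o ≫ a₀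
  have hoO : AlgSp.RepWith @IsOpenImmersion ((AlgSp.yon S).map o) :=
    (AlgSp.repWith_yon_map_iff _ _).2 (inferInstanceAs (IsOpenImmersion O.ι))
  have ha : AlgSp.RepWith @IsOpenImmersion a := (AlgSp.RepWith @IsOpenImmersion).comp_mem _ _ hoO ha₀
  have hae := etale_of_open ha
  have := AlgSpB.mono_of_isOpenImmersion ha
  have := AlgSpB.mono_of_isOpenImmersion hb₀
  obtain ⟨g, hg⟩ := AlgSpB.exists_lift_yon_of_isOpenImmersion hb₀ (a ≫ f.hom) (by
    rintro _ ⟨t, rfl⟩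
    obtain ⟨v, hv⟩ : AlgSp.Points.ofPt (a₀ ≫ f.hom) (O.ι t) ∈ Set.range (AlgSp.Points.ofPt b₀) := t.2
    refine ⟨AlgSp.Points.ofScheme V₀ v, ?_⟩
    rw [← AlgSp.Points.ofPt_eq_map_ofScheme, hv, Category.assoc, AlgSpB.ofPt_map_comp]
    rfl)
  obtain ⟨g, rfl⟩ := (AlgSp.yon S).map_surjective g
  have hgpt : ∀ t : ↥U.left, AlgSp.Points.map f.hom (AlgSp.Points.ofPt a t) = AlgSp.Points.ofPt b₀ (g.left t) := by
    intro t
    rw [AlgSp.Points.map_ofPt, ← hg, AlgSpB.ofPt_map_comp]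
  -- every generic point of `X` is in `U`, with an isomorphism of local rings
  have hgenU : ∀ x ∈ genericPoints (AlgSp.Points X.obj),
      ∃ t : ↥U.left, AlgSp.Points.ofPt a t = x ∧ IsIso (g.left.stalkMap t) := by
    intro x hx
    obtain ⟨Ux, Vx, ax, bx, gx, ux, hax, hbx, wx, rfl, hiso⟩ := hf.stalkIso x hx
    obtain ⟨i₀, hi₀⟩ := AlgSpB.exists_lift_yon_of_isOpenImmersion ha₀ ax (by
      rintro _ ⟨t, rfl⟩
      obtain ⟨s, hs⟩ := hmaxX Ux ax hax ⟨t, rfl⟩
      exact ⟨AlgSp.Points.ofScheme U₀ s, (AlgSp.Points.ofPt_eq_map_ofScheme _ _).symm.trans hs⟩)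
    obtain ⟨i₀, rfl⟩ := (AlgSp.yon S).map_surjective i₀
    have hrange : ∀ t, i₀.left t ∈ O := fun t => by
      show AlgSp.Points.ofPt (a₀ ≫ f.hom) (i₀.left t) ∈ Set.range (AlgSp.Points.ofPt b₀)
      rw [← AlgSpB.ofPt_map_comp, reassoc_of% hi₀, wx, AlgSpB.ofPt_map_comp]
      exact hmaxY Vx bx hbx ⟨_, rfl⟩
    obtain ⟨il, hil⟩ : ∃ il : Ux.left ⟶ O.toScheme, il ≫ O.ι = i₀.left :=
      ⟨IsOpenImmersion.lift O.ι i₀.left (by rintro _ ⟨t, rfl⟩; rw [Scheme.Opens.range_ι]; exact hrange t),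
        IsOpenImmersion.lift_fac _ _ _⟩
    let i : Ux ⟶ U := Over.homMk il (by show il ≫ O.ι ≫ U₀.hom = Ux.hom; rw [reassoc_of% hil, Over.w i₀])
    have hia : (AlgSp.yon S).map i ≫ a = ax := by
      rw [← Category.assoc, ← Functor.map_comp, ← hi₀]
      congr 2
      ext1
      exact hil
    obtain ⟨e₀, he₀⟩ := AlgSpB.exists_lift_yon_of_isOpenImmersion hb₀ bx (by
      rintro _ ⟨t, rfl⟩
      obtain ⟨s, hs⟩ := hmaxY Vx bx hbx ⟨t, rfl⟩
      exact ⟨AlgSp.Points.ofScheme V₀ s, (AlgSp.Points.ofPt_eq_map_ofScheme _ _).symm.trans hs⟩)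
    obtain ⟨e₀, rfl⟩ := (AlgSp.yon S).map_surjective e₀
    have hcomm : i ≫ g = gx ≫ e₀ := (AlgSp.yon S).map_injective (by
      rw [← cancel_mono b₀, Functor.map_comp, Functor.map_comp, Category.assoc, Category.assoc, hg, he₀,
        reassoc_of% hia, wx])
    have hiO : IsOpenImmersion i.left := (AlgSp.repWith_yon_map_iff _ _).1
      (repWith_of_comp_mono hia hax)
    have heO : IsOpenImmersion e₀.left := (AlgSp.repWith_yon_map_iff _ _).1
      (repWith_of_comp_mono he₀ hbx)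
    refine ⟨i.left ux, by rw [← AlgSpB.ofPt_map_comp, hia], ?_⟩
    have key : ∀ {m m' : Ux.left ⟶ V₀.left}, m = m' → IsIso (m'.stalkMap ux) → IsIso (m.stalkMap ux) := by
      rintro m m' rfl hm; exact hm
    have h1 : IsIso ((i.left ≫ g.left).stalkMap ux) := by
      refine key (congrArg (fun k => k.left) hcomm) ?_
      show IsIso ((gx.left ≫ e₀.left).stalkMap ux)
      haveI := hiso
      rw [Scheme.Hom.stalkMap_comp]
      infer_instance
    rw [Scheme.Hom.stalkMap_comp] at h1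
    exact IsIso.of_isIso_comp_right (g.left.stalkMap (i.left ux)) (i.left.stalkMap ux)
  have hgenV : ∀ y ∈ genericPoints (AlgSp.Points Y.obj), ∃ v : ↥V₀.left, AlgSp.Points.ofPt b₀ v = y := by
    intro y hy
    obtain ⟨x, hx, rfl⟩ := hf.bijOn.surjOn hy
    obtain ⟨t, rfl, -⟩ := hgenU x hx
    exact ⟨_, (hgpt t).symm⟩
  have hUc : ∀ t : ↥U.left, closure {t} ∈ irreducibleComponents ↥U.left ↔
      AlgSp.Points.ofPt a t ∈ genericPoints (AlgSp.Points X.obj) := fun t => by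
    rw [generic_iff_chart hX hae, components_iff]
  have hVc : ∀ t : ↥V₀.left, closure {t} ∈ irreducibleComponents ↥V₀.left ↔
      AlgSp.Points.ofPt b₀ t ∈ genericPoints (AlgSp.Points Y.obj) := fun t => by
    rw [generic_iff_chart hY hb₀e, components_iff]
  have hinja : Function.Injective (AlgSp.Points.ofPt a) := fun s t e => by
    rw [AlgSp.Points.ofPt_eq_map_ofScheme, AlgSp.Points.ofPt_eq_map_ofScheme] at e
    exact (AlgSp.Points.toScheme_ofScheme U _).symm.trans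
      ((congrArg _ (AlgSpB.injective_map_of_mono a e)).trans (AlgSp.Points.toScheme_ofScheme U _))
  have hinjb : Function.Injective (AlgSp.Points.ofPt b₀) := fun s t e => by
    rw [AlgSp.Points.ofPt_eq_map_ofScheme, AlgSp.Points.ofPt_eq_map_ofScheme] at e
    exact (AlgSp.Points.toScheme_ofScheme V₀ _).symm.trans
      ((congrArg _ (AlgSpB.injective_map_of_mono b₀ e)).trans (AlgSp.Points.toScheme_ofScheme V₀ _))
  have hfinU : (irreducibleComponents ↥U.left).Finite := by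
    have h1 : {t : ↥U.left | closure {t} ∈ irreducibleComponents ↥U.left}.Finite :=
      ((genericPoints.finite hXf).preimage hinja.injOn).subset fun t ht => (hUc t).1 ht
    refine (h1.image fun t => closure {t}).subset fun T hT => ?_
    obtain ⟨η, hη⟩ := QuasiSober.sober hT.1 (isClosed_of_mem_irreducibleComponents T hT)
    exact ⟨η, by show closure {η} ∈ irreducibleComponents ↥U.left; rw [hη.def]; exact hT, hη.def⟩
  have hfinV : (irreducibleComponents ↥V₀.left).Finite := by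
    have h1 : {t : ↥V₀.left | closure {t} ∈ irreducibleComponents ↥V₀.left}.Finite :=
      ((genericPoints.finite hYf).preimage hinjb.injOn).subset fun t ht => (hVc t).1 ht
    refine (h1.image fun t => closure {t}).subset fun T hT => ?_
    obtain ⟨η, hη⟩ := QuasiSober.sober hT.1 (isClosed_of_mem_irreducibleComponents T hT)
    exact ⟨η, by show closure {η} ∈ irreducibleComponents ↥V₀.left; rw [hη.def]; exact hT, hη.def⟩
  have hbij : Set.BijOn (fun t : ↥U.left => g.left t) {t | closure {t} ∈ irreducibleComponents ↥U.left}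
      {v | closure {v} ∈ irreducibleComponents ↥V₀.left} := by
    refine ⟨fun t ht => (hVc _).2 ?_, fun s hs t ht e => hinja ?_, fun v hv => ?_⟩
    · rw [← hgpt]; exact hf.bijOn.mapsTo ((hUc t).1 ht)
    · exact hf.bijOn.injOn ((hUc s).1 hs) ((hUc t).1 ht) (by rw [hgpt, hgpt]; exact congrArg _ e)
    · obtain ⟨x, hx, hxv⟩ := hf.bijOn.surjOn ((hVc v).1 hv)
      obtain ⟨t, rfl, -⟩ := hgenU x hx
      exact ⟨t, (hUc t).2 hx, hinjb (by rw [← hgpt, hxv])⟩
  have hisoU : ∀ t : ↥U.left, closure {t} ∈ irreducibleComponents ↥U.left → IsIso (g.left.stalkMap t) := by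
    intro t ht
    obtain ⟨t', ht', hiso⟩ := hgenU _ ((hUc t).1 ht)
    exact hinja ht' ▸ hiso
  have hcase : (LocallyOfFiniteType g.left ∧ AlgebraicGeometry.IsReduced V₀.left) ∨
      LocallyOfFinitePresentation g.left := by
    rcases h with ⟨h1, h2⟩ | h1
    · exact Or.inl ⟨h1 a b₀ g hae hb₀e hg.symm, AlgSp.SchImageRep.isReduced_chart Y.property h2 b₀ hb₀e⟩
    · exact Or.inr (h1 a b₀ g hae hb₀e hg.symm)
  obtain ⟨U', V', hUV, -, -, hiso', hgen'⟩ := BirLib.exists_dense_isIso_resLE g.left hfinU hfinV hbij hisoU hcase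
  let U₁ : Over S := Over.mk (U'.ι ≫ U.hom)
  let V₁ : Over S := Over.mk (V'.ι ≫ V₀.hom)
  let u₁ : U₁ ⟶ U := Over.homMk U'.ι rfl
  let v₁ : V₁ ⟶ V₀ := Over.homMk V'.ι rfl
  let g₁ : U₁ ⟶ V₁ := Over.homMk (g.left.resLE V' U' hUV) (by
    show g.left.resLE V' U' hUV ≫ V'.ι ≫ V₀.hom = U'.ι ≫ U.hom
    rw [Scheme.Hom.resLE_comp_ι_assoc, Over.w g])
  have hu₁ : AlgSp.RepWith @IsOpenImmersion ((AlgSp.yon S).map u₁) :=
    (AlgSp.repWith_yon_map_iff _ _).2 (inferInstanceAs (IsOpenImmersion U'.ι))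
  have hv₁ : AlgSp.RepWith @IsOpenImmersion ((AlgSp.yon S).map v₁) :=
    (AlgSp.repWith_yon_map_iff _ _).2 (inferInstanceAs (IsOpenImmersion V'.ι))
  have hU₁ : ∀ x ∈ genericPoints (AlgSp.Points X.obj),
      ∃ t : ↥U₁.left, AlgSp.Points.ofPt ((AlgSp.yon S).map u₁ ≫ a) t = x := fun x hx => by
    obtain ⟨t, rfl, -⟩ := hgenU x hx
    exact ⟨⟨t, hgen' t ((hUc t).2 hx)⟩, AlgSpB.ofPt_map_comp _ _ _⟩
  have hw : ((AlgSp.yon S).map u₁ ≫ a) ≫ f.hom = (AlgSp.yon S).map g₁ ≫ (AlgSp.yon S).map v₁ ≫ b₀ := by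
    rw [Category.assoc, ← hg, ← Category.assoc, ← Category.assoc, ← Functor.map_comp, ← Functor.map_comp]
    congr 2
    ext1
    exact (Scheme.Hom.resLE_comp_ι _ _).symm
  have dense_of : ∀ {Z : AlgSp.Space S}, AlgSp.IsDecent Z.obj → ∀ (A : Set (AlgSp.Points Z.obj)),
      (∀ x ∈ genericPoints (AlgSp.Points Z.obj), x ∈ A) → Dense A := fun hZ A hA x => by
    obtain ⟨η, hη, hηx⟩ := exists_generic_specializes hZ x
    exact closure_mono (Set.singleton_subset_iff.2 (hA η hη)) (specializes_iff_mem_closure.1 hηx)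
  refine ⟨U₁, V₁, (AlgSp.yon S).map u₁ ≫ a, (AlgSp.yon S).map v₁ ≫ b₀, g₁,
    (AlgSp.RepWith @IsOpenImmersion).comp_mem _ _ hu₁ ha, (AlgSp.RepWith @IsOpenImmersion).comp_mem _ _ hv₁ hb₀,
    dense_of hX _ hU₁, dense_of hY _ ?_, hw, hiso', hU₁⟩
  intro y hy
  obtain ⟨x, hx, rfl⟩ := hf.bijOn.surjOn hy
  obtain ⟨t, rfl⟩ := hU₁ x hx
  exact ⟨g₁.left t, by rw [AlgSp.Points.map_ofPt, hw, AlgSpB.ofPt_map_comp, AlgSpB.ofPt_map_comp, AlgSpB.ofPt_map_comp]⟩

end Groth.Agent.BirSp
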