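import Groth.Agent.BirSp.Space
import Groth.Agent.AlgSpD.Decent
import Groth.Agent.AlgSp.Space

/-!
# Etale base change of birational morphisms
-/

universe u

open CategoryTheory CategoryTheory.Limits AlgebraicGeometry TopologicalSpace

set_option autoImplicit false
set_option linter.style.haveILetI false
set_option backward.isDefEq.respectTransparency false

namespace Groth.Agent.BirSp

open Groth.Agent

variable {S : Scheme.{u}}

theorem generic_iff_chart {Z : AlgSp.Space S} (hZ : AlgSp.IsDecent Z.obj) {W : Over S}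
    {c : (AlgSp.yon S).obj W ⟶ Z.obj} (hc : AlgSp.RepWith @Etale c) (w : ↥W.left) :
    AlgSp.Points.ofPt c w ∈ genericPoints (AlgSp.Points Z.obj) ↔ ∀ z : ↥W.left, z ⤳ w → z = w := by
  have := S10338.result Z hZ
  refine ⟨fun h z hz => generization_eq hZ hc h hz, fun h => ?_⟩
  obtain ⟨η, hη, hηw⟩ := exists_generic_specializes hZ (AlgSp.Points.ofPt c w)
  obtain ⟨z, hz, rfl⟩ := AlgSpD.exists_lift_of_specializes Z hZ c hc w η hηw
  rwa [h z hz] at hη

theorem generic_map_etale {P Z : AlgSp.Space S} (π : P.obj ⟶ Z.obj) (hP : AlgSp.IsDecent P.obj)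
    (hZ : AlgSp.IsDecent Z.obj) (hπ : AlgSp.RepWith @Etale π) (p : AlgSp.Points P.obj) :
    p ∈ genericPoints (AlgSp.Points P.obj) ↔ AlgSp.Points.map π p ∈ genericPoints (AlgSp.Points Z.obj) := by
  obtain ⟨W, c, w, hc, rfl⟩ := AlgSpD.exists_chart P p
  rw [AlgSp.Points.map_ofPt, generic_iff_chart hP hc, generic_iff_chart hZ ((AlgSp.RepWith @Etale).comp_mem _ _ hc hπ)]

/-- A base change of an open immersion into a pullback. -/
theorem exists_open_piece {X Y : AlgSp.Space S} (f : X ⟶ Y) {U V' V : Over S} {a : (AlgSp.yon S).obj U ⟶ X.obj}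
    {b' : (AlgSp.yon S).obj V' ⟶ Y.obj} {g : U ⟶ V'} (w : a ≫ f.hom = (AlgSp.yon S).map g ≫ b')
    (ha : AlgSp.RepWith @IsOpenImmersion a) (hb' : AlgSp.RepWith @IsOpenImmersion b')
    {b : (AlgSp.yon S).obj V ⟶ Y.obj} (hb : AlgSp.RepWith @Etale b) {P : AlgSp.Sp S} {fst : P ⟶ X.obj}
    {snd : P ⟶ (AlgSp.yon S).obj V} (hP : IsPullback fst snd f.hom b) :
    ∃ (Q U' : Over S) (j : Q ⟶ V) (k : Q ⟶ V') (p : U' ⟶ U) (g' : U' ⟶ Q) (c : (AlgSp.yon S).obj U' ⟶ P),
      AlgSp.RepWith @IsOpenImmersion ((AlgSp.yon S).map j) ∧ Etale k.left ∧ IsPullback p g' g k ∧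
      AlgSp.RepWith @IsOpenImmersion c ∧ c ≫ fst = (AlgSp.yon S).map p ≫ a ∧
      c ≫ snd = (AlgSp.yon S).map g' ≫ (AlgSp.yon S).map j ∧
      (AlgSp.yon S).map j ≫ b = (AlgSp.yon S).map k ≫ b' ∧
      ∀ (q : AlgSp.Points P) (t : ↥U.left) , AlgSp.Points.map fst q = AlgSp.Points.ofPt a t →
        ∃ t' : ↥U'.left, AlgSp.Points.ofPt c t' = q := by
  obtain ⟨Q, k, j, sqQ⟩ := AlgSpB.exists_pullback_yon hb'.1 b
  have := AlgSpB.mono_of_isOpenImmersion ha
  have := AlgSpB.mono_of_isOpenImmersion hb'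
  have hk : Etale k.left := hb.2 _ _ _ sqQ.flip
  have hj : AlgSp.RepWith @IsOpenImmersion ((AlgSp.yon S).map j) :=
    MorphismProperty.of_isPullback sqQ hb'
  have sqU := IsPullback.of_hasPullback g k
  have sqU' := sqU.map (AlgSp.yon S)
  let c : (AlgSp.yon S).obj (pullback g k) ⟶ P :=
    hP.lift ((AlgSp.yon S).map (pullback.fst g k) ≫ a) ((AlgSp.yon S).map (pullback.snd g k) ≫ (AlgSp.yon S).map j)
      (by rw [Category.assoc, w, reassoc_of% sqU'.w, sqQ.w, Category.assoc])
  have sqc : IsPullback ((AlgSp.yon S).map (pullback.fst g k)) c a fst := by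
    refine IsPullback.of_bot ?_ (hP.lift_fst _ _ _).symm hP
    have h := sqU'.paste_vert sqQ
    rw [show c ≫ snd = _ from hP.lift_snd _ _ _, w]
    exact h
  refine ⟨Q, pullback g k, j, k, pullback.fst g k, pullback.snd g k, c, hj, hk, sqU,
    MorphismProperty.of_isPullback sqc ha, hP.lift_fst _ _ _, hP.lift_snd _ _ _, sqQ.w.symm, fun q t ht => ?_⟩
  obtain ⟨z, h1, h2⟩ := AlgSpB.exists_of_isPullback sqc.flip q (AlgSp.Points.ofScheme U t)
    (by rw [← AlgSp.Points.ofPt_eq_map_ofScheme, ht])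
  refine ⟨AlgSp.Points.toScheme _ z, ?_⟩
  rw [AlgSp.Points.ofPt_eq_map_ofScheme, AlgSp.Points.ofScheme_toScheme]
  exact h1

theorem finite_of_generic {Z : AlgSp.Space S} (hZ : AlgSp.IsDecent Z.obj)
    (h : (genericPoints (AlgSp.Points Z.obj)).Finite) : (irreducibleComponents (AlgSp.Points Z.obj)).Finite := by
  have := S10339.result Z hZ
  refine (h.image fun y => closure {y}).subset fun T hT => ?_
  exact ⟨_, (genericPoints.ofComponent ⟨T, hT⟩).2, genericPoints.isGenericPoint_ofComponent ⟨T, hT⟩⟩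

/-- Etale base change to an affine scheme of a birational morphism. -/
theorem baseChange {X Y : AlgSp.Space S} (f : X ⟶ Y) (hX : AlgSp.IsDecent X.obj) (hY : AlgSp.IsDecent Y.obj)
    (hYf : (irreducibleComponents (AlgSp.Points Y.obj)).Finite)
    (hf : W4stk3decentspacesp2.IsBirational f.hom) {V : Over S} [IsAffine V.left] (b : (AlgSp.yon S).obj V ⟶ Y.obj)
    (hb : AlgSp.RepWith @Etale b) {P : AlgSp.Sp S} (fst : P ⟶ X.obj) (snd : P ⟶ (AlgSp.yon S).obj V)
    (hP : IsPullback fst snd f.hom b) :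
    AlgSp.IsDecent P ∧ (irreducibleComponents (AlgSp.Points P)).Finite ∧
      (irreducibleComponents (AlgSp.Points ((AlgSp.yon S).obj V))).Finite ∧ W4stk3decentspacesp2.IsBirational snd := by
  have hfst : AlgSp.RepWith @Etale fst := MorphismProperty.of_isPullback hP.flip hb
  have hPdec : AlgSp.IsDecent P := AlgSpD.isDecent_of_representable fst hfst.1 hX
  have hVdec : AlgSp.IsDecent ((AlgSp.yon S).obj V) := AlgSpD.isDecent_of_representable b hb.1 hY
  let PS : AlgSp.Space S :=
    ⟨P, Groth.Agent.AlgSp.isAlgSpace_of_isPullback' Y.property X.property (AlgSp.IsAlgSpace.yon_obj _) hP⟩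
  let VS : AlgSp.Space S := ⟨(AlgSp.yon S).obj V, AlgSp.IsAlgSpace.yon_obj V⟩
  have := S10338.result Y hY
  -- generic points
  have hVgen : ∀ p, p ∈ genericPoints (AlgSp.Points VS.obj) ↔
      AlgSp.Points.map b p ∈ genericPoints (AlgSp.Points Y.obj) := generic_map_etale (P := VS) b hVdec hY hb
  have hPgen : ∀ p, p ∈ genericPoints (AlgSp.Points PS.obj) ↔
      AlgSp.Points.map fst p ∈ genericPoints (AlgSp.Points X.obj) := generic_map_etale (P := PS) fst hPdec hX hfst
  have hVfin : (genericPoints (AlgSp.Points VS.obj)).Finite := by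
    refine ((genericPoints.finite hYf).biUnion fun y hy => ?_).subset
      (show genericPoints (AlgSp.Points VS.obj) ⊆ ⋃ y ∈ genericPoints (AlgSp.Points Y.obj),
        AlgSp.Points.map b ⁻¹' {y} from fun p hp => Set.mem_iUnion₂.2 ⟨_, (hVgen p).1 hp, rfl⟩)
    obtain ⟨q, rfl, -, hq⟩ := hY y
    refine ((AlgSpD.finite_preimage_of_qc_point q hq b hb).image (AlgSp.Points.ofScheme V)).subset
      fun p hp => ⟨AlgSp.Points.toScheme V p, ?_, AlgSp.Points.ofScheme_toScheme V p⟩
    show AlgSp.Points.ofPt b _ = _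
    rw [AlgSp.Points.ofPt_eq_map_ofScheme, AlgSp.Points.ofScheme_toScheme]
    exact hp
  -- the data over a generic point of `V`
  have hw : ∀ p : AlgSp.Points P, AlgSp.Points.map b (AlgSp.Points.map snd p) =
      AlgSp.Points.map f.hom (AlgSp.Points.map fst p) := fun p => by
    rw [← AlgSp.Points.map_comp, ← hP.w, AlgSp.Points.map_comp]
  have hdata : ∀ q : AlgSp.Points VS.obj, q ∈ genericPoints (AlgSp.Points VS.obj) →
      (∀ p p' : AlgSp.Points P, AlgSp.Points.map snd p = q → AlgSp.Points.map snd p' = q → p = p') ∧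
      ∃ p : AlgSp.Points P, AlgSp.Points.map snd p = q ∧ p ∈ genericPoints (AlgSp.Points P) ∧
        ∃ (U' Q : Over S) (c : (AlgSp.yon S).obj U' ⟶ P) (j : (AlgSp.yon S).obj Q ⟶ (AlgSp.yon S).obj V) (g' : U' ⟶ Q)
          (u' : ↥U'.left), AlgSp.RepWith @IsOpenImmersion c ∧ AlgSp.RepWith @IsOpenImmersion j ∧
            c ≫ snd = (AlgSp.yon S).map g' ≫ j ∧ AlgSp.Points.ofPt c u' = p ∧ IsIso (g'.left.stalkMap u') := by
    intro q hq
    have hy := (hVgen q).1 hq
    obtain ⟨U, V', a, b', g, u, ha, hb', w, hbu, hgen, hiso, huniq⟩ := exists_fibre f hX hY hf _ hy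
    obtain ⟨Q, U', j, k, pr, g', c, hj, hk, sqU, hc, hcf, hcs, hjk, hlift⟩ := exists_open_piece f w ha hb' hb hP
    have := AlgSpB.mono_of_isOpenImmersion hj
    have := AlgSpB.mono_of_isOpenImmersion ha
    have := AlgSpB.mono_of_isOpenImmersion hb'
    -- points over `q`
    have hover : ∀ p, AlgSp.Points.map snd p = q → ∃ t', AlgSp.Points.ofPt c t' = p ∧
        AlgSp.Points.ofPt ((AlgSp.yon S).map j) (g'.left t') = q ∧ pr.left t' = u := by
      intro p hp
      have hpx : AlgSp.Points.map fst p = AlgSp.Points.ofPt a u := huniq _ (by rw [← hw, hp])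
      obtain ⟨t', rfl⟩ := hlift p u hpx
      refine ⟨t', rfl, ?_, ?_⟩
      · rw [← hp, AlgSp.Points.map_ofPt, hcs, AlgSpB.ofPt_map_comp]
      · rw [AlgSp.Points.map_ofPt, hcf, AlgSpB.ofPt_map_comp] at hpx
        rw [AlgSp.Points.ofPt_eq_map_ofScheme, AlgSp.Points.ofPt_eq_map_ofScheme] at hpx
        exact (AlgSp.Points.toScheme_ofScheme U _).symm.trans
          ((congrArg _ (AlgSpB.injective_map_of_mono a hpx)).trans (AlgSp.Points.toScheme_ofScheme U _))
    obtain ⟨p, hp1, hp2⟩ := AlgSpB.exists_of_isPullback hP.flip q (AlgSp.Points.ofPt a u) (by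
      rw [← hbu, AlgSp.Points.map_ofPt, w, AlgSpB.ofPt_map_comp])
    obtain ⟨u', hcu, hju, hpu⟩ := hover p hp1
    -- the iso over the local ring at `g' u'`
    have hkv : k.left (g'.left u') = g.left u := by
      rw [← Scheme.Hom.comp_apply, ← Over.comp_left, ← sqU.w, Over.comp_left, Scheme.Hom.comp_apply, hpu]
    have hfib : ∀ z : ↥U.left, g.left z ⤳ g.left u → z = u := fun z hz => by
      have hz' : g.left z = g.left u := generization_eq hY (etale_of_open hb') (hbu ▸ hy) hz
      have := huniq (AlgSp.Points.ofPt a z) (by rw [AlgSp.Points.map_ofPt, w, AlgSpB.ofPt_map_comp, hz', hbu])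
      rw [AlgSp.Points.ofPt_eq_map_ofScheme, AlgSp.Points.ofPt_eq_map_ofScheme] at this
      exact (AlgSp.Points.toScheme_ofScheme U _).symm.trans
        ((congrArg _ (AlgSpB.injective_map_of_mono a this)).trans (AlgSp.Points.toScheme_ofScheme U _))
    haveI := hiso
    have h1 := isIso_snd_fromSpecStalk g.left u hfib
    have sqL : IsPullback pr.left g'.left g.left k.left := sqU.map (Over.forget S)
    obtain ⟨s, hs⟩ : ∃ s : Spec (Q.left.presheaf.stalk (g'.left u')) ⟶ Spec (V'.left.presheaf.stalk (g.left u)),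
        s ≫ V'.left.fromSpecStalk (g.left u) = Q.left.fromSpecStalk (g'.left u') ≫ k.left := by
      have key : ∀ x, k.left (g'.left u') = x →
          ∃ s : Spec (Q.left.presheaf.stalk (g'.left u')) ⟶ Spec (V'.left.presheaf.stalk x),
            s ≫ V'.left.fromSpecStalk x = Q.left.fromSpecStalk (g'.left u') ≫ k.left := by
        rintro x rfl
        exact ⟨_, Scheme.SpecMap_stalkMap_fromSpecStalk k.left⟩
      exact key _ hkv
    have h2 : IsIso (pullback.snd g'.left (Q.left.fromSpecStalk (g'.left u'))) := by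
      have A := (IsPullback.of_hasPullback g'.left (Q.left.fromSpecStalk (g'.left u'))).paste_horiz sqL
      have B : IsPullback (pullback.fst g'.left (Q.left.fromSpecStalk (g'.left u')) ≫ pr.left)
          (pullback.snd g'.left (Q.left.fromSpecStalk (g'.left u'))) g.left
          (s ≫ V'.left.fromSpecStalk (g.left u)) := by rw [hs]; exact A
      let l := pullback.lift (f := g.left) (g := V'.left.fromSpecStalk (g.left u)) _ _ (B.w.trans (Category.assoc _ _ _).symm)
      have C : IsPullback l (pullback.snd g'.left (Q.left.fromSpecStalk (g'.left u')))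
          (pullback.snd g.left (V'.left.fromSpecStalk (g.left u))) s :=
        IsPullback.of_right (by rw [pullback.lift_fst]; exact B) (pullback.lift_snd _ _ _) (IsPullback.of_hasPullback _ _)
      exact MorphismProperty.of_isPullback (P := MorphismProperty.isomorphisms Scheme.{u}) C h1
    have hqgen : ∀ z : ↥Q.left, z ⤳ g'.left u' → z = g'.left u' := by
      have hjdec : AlgSp.RepWith @Etale ((AlgSp.yon S).map j ≫ 𝟙 _) := by
        rw [Category.comp_id]; exact etale_of_open hj
      refine (generic_iff_chart (Z := VS) hVdec (etale_of_open hj) (g'.left u')).1 ?_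
      rw [hju]; exact hq
    refine ⟨fun p₁ p₂ e1 e2 => ?_, p, hp1, (hPgen p).2 (hp2 ▸ hgen), U', Q, c, (AlgSp.yon S).map j, g', u',
      hc, hj, hcs, hcu, isIso_stalkMap_of_isIso_snd g'.left u'⟩
    have hsame : ∀ p₁, AlgSp.Points.map snd p₁ = q → p₁ = p := by
      intro p₁ e1
      obtain ⟨t, rfl, ht, -⟩ := hover p₁ e1
      have htq : g'.left t = g'.left u' := by
        rw [← hju, AlgSp.Points.ofPt_eq_map_ofScheme, AlgSp.Points.ofPt_eq_map_ofScheme] at ht
        exact (AlgSp.Points.toScheme_ofScheme Q _).symm.trans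
          ((congrArg _ (AlgSpB.injective_map_of_mono _ ht)).trans (AlgSp.Points.toScheme_ofScheme Q _))
      have hr : ∀ t, g'.left t = g'.left u' →
          t ∈ Set.range (pullback.fst g'.left (Q.left.fromSpecStalk (g'.left u'))) := fun t ht => by
        rw [Scheme.Pullback.range_fst, Set.mem_preimage, Scheme.range_fromSpecStalk]
        exact specializes_of_eq ht
      obtain ⟨z₁, hz₁⟩ := hr t htq
      obtain ⟨z₂, hz₂⟩ := hr u' rfl
      have : z₁ = z₂ := by
        refine (pullback.snd g'.left (Q.left.fromSpecStalk (g'.left u'))).isEmbedding.injective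
          ((Q.left.fromSpecStalk (g'.left u')).isEmbedding.injective ?_)
        simp only [← Scheme.Hom.comp_apply, ← pullback.condition]
        rw [Scheme.Hom.comp_apply, Scheme.Hom.comp_apply, hz₁, hz₂, htq]
      exact (congrArg (AlgSp.Points.ofPt c) ((hz₁.symm.trans (congrArg _ this)).trans hz₂)).trans hcu
    rw [hsame _ e1, hsame _ e2]
  have hmaps : Set.MapsTo (AlgSp.Points.map snd) (genericPoints (AlgSp.Points P))
      (genericPoints (AlgSp.Points VS.obj)) := fun p hp =>
    (hVgen _).2 ((hw p).symm ▸ hf.bijOn.mapsTo ((hPgen p).1 hp))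
  have hinj : Set.InjOn (AlgSp.Points.map snd) (genericPoints (AlgSp.Points P)) := fun p hp p' _ e =>
    (hdata _ (hmaps hp)).1 p p' rfl e.symm
  refine ⟨hPdec, finite_of_generic (Z := PS) hPdec (Set.Finite.of_finite_image (hVfin.subset hmaps.image_subset) hinj),
    finite_of_generic (Z := VS) hVdec hVfin, ⟨⟨hmaps, hinj, fun q hq => ?_⟩, fun p hp => ?_⟩⟩
  · obtain ⟨-, p, h1, h2, -⟩ := hdata q hq
    exact ⟨p, h2, h1⟩
  · obtain ⟨huq, p₀, h1, -, U', Q, c, j, g', u', h3, h4, h5, h6, h7⟩ := hdata _ (hmaps hp)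
    exact ⟨U', Q, c, j, g', u', h3, h4, h5, h6.trans (huq _ _ h1 rfl), h7⟩

end Groth.Agent.BirSp
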