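import Groth.Agent.BirSp.Space

/-!
# Base change of a birational morphism to the local ring at a generic point
-/

universe u

open CategoryTheory CategoryTheory.Limits AlgebraicGeometry TopologicalSpace

set_option autoImplicit false
set_option linter.style.haveILetI false
set_option backward.isDefEq.respectTransparency false

namespace Groth.Agent.BirSp

open Groth.Agent

variable {S : Scheme.{u}}

/-- `Spec` of the local ring over `S`. -/
noncomputable abbrev genPt (V : Over S) (v : ↥V.left) : Over S := Over.mk (V.left.fromSpecStalk v ≫ V.hom)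

/-- `Spec` of the local ring mapping to the scheme. -/
noncomputable abbrev genMap (V : Over S) (v : ↥V.left) : genPt V v ⟶ V := Over.homMk (V.left.fromSpecStalk v) rfl

theorem ofPt_inj {F : AlgSp.Sp S} {V : Over S} {b : (AlgSp.yon S).obj V ⟶ F} [Mono b] {s t : ↥V.left}
    (h : AlgSp.Points.ofPt b s = AlgSp.Points.ofPt b t) : s = t := by
  rw [AlgSp.Points.ofPt_eq_map_ofScheme, AlgSp.Points.ofPt_eq_map_ofScheme] at h
  exact (AlgSp.Points.toScheme_ofScheme V _).symm.trans
    ((congrArg _ (AlgSpB.injective_map_of_mono b h)).trans (AlgSp.Points.toScheme_ofScheme V _))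

theorem exists_genPt_hom {Y : AlgSp.Space S} (hY : AlgSp.IsDecent Y.obj) {V V' : Over S}
    {b : (AlgSp.yon S).obj V ⟶ Y.obj} (hb : AlgSp.RepWith @IsOpenImmersion b)
    {b' : (AlgSp.yon S).obj V' ⟶ Y.obj} (hb' : AlgSp.RepWith @IsOpenImmersion b') {v : ↥V.left} {v' : ↥V'.left}
    (h : AlgSp.Points.ofPt b v = AlgSp.Points.ofPt b' v')
    (hv : AlgSp.Points.ofPt b v ∈ genericPoints (AlgSp.Points Y.obj)) :
    ∃ m : genPt V v ⟶ genPt V' v',
      (AlgSp.yon S).map m ≫ (AlgSp.yon S).map (genMap V' v') ≫ b' = (AlgSp.yon S).map (genMap V v) ≫ b := by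
  have := AlgSpB.mono_of_isOpenImmersion hb'
  have hpt : ∀ t : ↥(genPt V v).left, AlgSp.Points.ofPt ((AlgSp.yon S).map (genMap V v) ≫ b) t =
      AlgSp.Points.ofPt b' v' := fun t => by
    rw [AlgSpB.ofPt_map_comp, show (genMap V v).left t = v from specStalk_apply hY (etale_of_open hb) hv t, h]
  obtain ⟨l, hl⟩ := AlgSpB.exists_lift_yon_of_isOpenImmersion hb' ((AlgSp.yon S).map (genMap V v) ≫ b) (by
    rintro _ ⟨t, rfl⟩
    exact ⟨AlgSp.Points.ofScheme V' v', (AlgSp.Points.ofPt_eq_map_ofScheme _ _).symm.trans (hpt t).symm⟩)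
  obtain ⟨l, rfl⟩ := (AlgSp.yon S).map_surjective l
  have hlv : l.left (IsLocalRing.closedPoint (V.left.presheaf.stalk v)) = v' := ofPt_inj (b := b') (by
    rw [← AlgSpB.ofPt_map_comp, hl]
    exact hpt _)
  have key : ∀ x, l.left (IsLocalRing.closedPoint (V.left.presheaf.stalk v)) = x →
      ∃ r : Spec (V.left.presheaf.stalk v) ⟶ Spec (V'.left.presheaf.stalk x), r ≫ V'.left.fromSpecStalk x = l.left := by
    rintro x rfl
    exact ⟨_, Scheme.Spec_stalkClosedPointTo_fromSpecStalk l.left⟩
  obtain ⟨r, hr⟩ := key v' hlv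
  refine ⟨Over.homMk r (by
    show r ≫ V'.left.fromSpecStalk v' ≫ V'.hom = _
    rw [reassoc_of% hr]
    exact Over.w l), ?_⟩
  rw [← Category.assoc, ← Functor.map_comp, ← hl]
  congr 2
  ext1
  exact hr

theorem exists_genPt_iso {Y : AlgSp.Space S} (hY : AlgSp.IsDecent Y.obj) {V V' : Over S}
    {b : (AlgSp.yon S).obj V ⟶ Y.obj} (hb : AlgSp.RepWith @IsOpenImmersion b)
    {b' : (AlgSp.yon S).obj V' ⟶ Y.obj} (hb' : AlgSp.RepWith @IsOpenImmersion b') {v : ↥V.left} {v' : ↥V'.left}
    (h : AlgSp.Points.ofPt b v = AlgSp.Points.ofPt b' v')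
    (hv : AlgSp.Points.ofPt b v ∈ genericPoints (AlgSp.Points Y.obj)) :
    ∃ m : genPt V v ≅ genPt V' v',
      (AlgSp.yon S).map m.hom ≫ (AlgSp.yon S).map (genMap V' v') ≫ b' = (AlgSp.yon S).map (genMap V v) ≫ b := by
  obtain ⟨m, hm⟩ := exists_genPt_hom hY hb hb' h hv
  obtain ⟨m', hm'⟩ := exists_genPt_hom hY hb' hb h.symm (h ▸ hv)
  have := AlgSpB.mono_of_isOpenImmersion hb
  have := AlgSpB.mono_of_isOpenImmersion hb'
  have : Mono (genMap V v).left := inferInstanceAs (Mono (V.left.fromSpecStalk v))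
  have : Mono (genMap V' v').left := inferInstanceAs (Mono (V'.left.fromSpecStalk v'))
  have : Mono (genMap V v) := Over.mono_of_mono_left _
  have : Mono (genMap V' v') := Over.mono_of_mono_left _
  refine ⟨⟨m, m', ?_, ?_⟩, hm⟩
  · apply (AlgSp.yon S).map_injective
    rw [← cancel_mono ((AlgSp.yon S).map (genMap V v) ≫ b), Functor.map_comp, Category.assoc, hm', hm,
      CategoryTheory.Functor.map_id, Category.id_comp]
  · apply (AlgSp.yon S).map_injective
    rw [← cancel_mono ((AlgSp.yon S).map (genMap V' v') ≫ b'), Functor.map_comp, Category.assoc, hm, hm',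
      CategoryTheory.Functor.map_id, Category.id_comp]

theorem isIso_snd {X Y : AlgSp.Space S} (f : X ⟶ Y) (hX : AlgSp.IsDecent X.obj) (hY : AlgSp.IsDecent Y.obj)
    (hf : W4stk3decentspacesp2.IsBirational f.hom) {V : Over S} (b : (AlgSp.yon S).obj V ⟶ Y.obj)
    (hb : AlgSp.RepWith @IsOpenImmersion b) (v : ↥V.left)
    (hv : AlgSp.Points.ofPt b v ∈ genericPoints (AlgSp.Points Y.obj)) {P : AlgSp.Sp S} (fst : P ⟶ X.obj)
    (snd : P ⟶ (AlgSp.yon S).obj (genPt V v))
    (hP : IsPullback fst snd f.hom ((AlgSp.yon S).map (genMap V v) ≫ b)) :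
    IsIso snd := by
  obtain ⟨U, V', a, b', g, u, ha, hb', w, hbu, hgen, hiso, huniq⟩ := exists_fibre f hX hY hf _ hv
  have := AlgSpB.mono_of_isOpenImmersion ha
  have := AlgSpB.mono_of_isOpenImmersion hb'
  obtain ⟨m, hm⟩ := exists_genPt_iso hY hb hb' hbu.symm hv
  obtain ⟨l, hl⟩ := (AlgSpB.exists_factor_isOpenImmersion_iff ha fst).2 (by
    rintro _ ⟨p, rfl⟩
    refine ⟨AlgSp.Points.ofScheme U u, ?_⟩
    rw [← AlgSp.Points.ofPt_eq_map_ofScheme]
    refine (huniq _ ?_).symm
    rw [← AlgSp.Points.map_comp, hP.w, AlgSp.Points.map_comp]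
    obtain ⟨t, ht⟩ : ∃ t, AlgSp.Points.ofScheme (genPt V v) t = AlgSp.Points.map snd p :=
      ⟨_, AlgSp.Points.ofScheme_toScheme _ _⟩
    rw [← ht, ← AlgSp.Points.ofPt_eq_map_ofScheme, AlgSpB.ofPt_map_comp]
    exact congrArg _ (specStalk_apply hY (etale_of_open hb) hv t))
  let snd' : P ⟶ (AlgSp.yon S).obj (genPt V' (g.left u)) := snd ≫ (AlgSp.yon S).map m.hom
  have sq : IsPullback l snd' ((AlgSp.yon S).map g) ((AlgSp.yon S).map (genMap V' (g.left u))) := by
    have hw : l ≫ (AlgSp.yon S).map g = snd' ≫ (AlgSp.yon S).map (genMap V' (g.left u)) := by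
      rw [← cancel_mono b', Category.assoc, ← w, reassoc_of% hl, hP.w, Category.assoc, Category.assoc,
        hm]
    refine IsPullback.of_isLimit' ⟨hw⟩ (PullbackCone.IsLimit.mk _
      (fun s => hP.lift (s.fst ≫ a) (s.snd ≫ (AlgSp.yon S).map m.inv) ?_) (fun s => ?_) (fun s => ?_)
      fun s k h1 h2 => ?_)
    · rw [Category.assoc, w, reassoc_of% s.condition, Category.assoc, ← hm, ← Category.assoc ((AlgSp.yon S).map m.inv),
        ← Functor.map_comp, Iso.inv_hom_id, CategoryTheory.Functor.map_id, Category.id_comp]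
    · rw [← cancel_mono a, Category.assoc, hl, hP.lift_fst]
    · show hP.lift _ _ _ ≫ snd ≫ (AlgSp.yon S).map m.hom = _
      rw [hP.lift_snd_assoc, Category.assoc, ← Functor.map_comp, Iso.inv_hom_id, CategoryTheory.Functor.map_id,
        Category.comp_id]
    · apply hP.hom_ext
      · rw [hP.lift_fst, ← hl, ← Category.assoc, h1]
      · rw [hP.lift_snd, ← h2]
        show _ = (k ≫ snd ≫ (AlgSp.yon S).map m.hom) ≫ _
        rw [Category.assoc, Category.assoc, ← Functor.map_comp, Iso.hom_inv_id, CategoryTheory.Functor.map_id,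
          Category.comp_id]
  have hsch : IsIso (pullback.snd g (genMap V' (g.left u))) := by
    haveI := hiso
    have h1 := isIso_snd_fromSpecStalk g.left u fun z hz => by
      have hz' : g.left z = g.left u := generization_eq hY (etale_of_open hb') (hbu ▸ hv) hz
      refine ofPt_inj (b := a) (huniq _ ?_)
      rw [AlgSp.Points.map_ofPt, w, AlgSpB.ofPt_map_comp, hz', hbu]
    have e : IsPullback (pullback.fst g (genMap V' (g.left u))).left (pullback.snd g (genMap V' (g.left u))).left
        g.left (V'.left.fromSpecStalk (g.left u)) :=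
      (IsPullback.of_hasPullback g (genMap V' (g.left u))).map (Over.forget S)
    have : IsIso (pullback.snd g (genMap V' (g.left u))).left := by
      rw [← e.isoPullback_hom_snd]
      infer_instance
    have : IsIso ((Over.forget S).map (pullback.snd g (genMap V' (g.left u)))) := this
    exact isIso_of_reflects_iso _ (Over.forget S)
  have e2 := (IsPullback.of_hasPullback g (genMap V' (g.left u))).map (AlgSp.yon S)
  have : IsIso snd' := by
    rw [← sq.isoIsPullback_hom_snd _ _ e2]
    infer_instance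
  exact IsIso.of_isIso_comp_right snd ((AlgSp.yon S).map m.hom)

end Groth.Agent.BirSp
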