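import Groth.Agent.BirSp.EtaleBC
import Groth.Agent.NormChar.Basic
import Groth.Agent.AlgSpD.IntegralMor
import Groth.Agent.AlgSp.SchImageRep
import Groth.Agent.FlatMor.GenericPts
import Groth.Agent.AlgSpCov.FpqcDiag
import Mathlib.AlgebraicGeometry.Properties

/-!
# Integral birational morphisms onto normal spaces
-/

universe u

open CategoryTheory CategoryTheory.Limits AlgebraicGeometry TopologicalSpace

set_option autoImplicit false
set_option linter.style.haveILetI false
set_option backward.isDefEq.respectTransparency false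

namespace Groth.Agent.BirSp

open Groth.Agent

/-- A point with domain local ring lies under a unique generic point. -/
theorem eq_of_generic_of_isDomain {V : Scheme.{u}} {v η η' : ↥V} [IsDomain ↥(V.presheaf.stalk v)]
    (hη : ∀ z, z ⤳ η → z = η) (h : η ⤳ v) (hη' : ∀ z, z ⤳ η' → z = η') (h' : η' ⤳ v) : η = η' := by
  let t₀ : PrimeSpectrum (V.presheaf.stalk v) := ⟨⊥, Ideal.isPrime_bot⟩
  have key : ∀ η : ↥V, (∀ z, z ⤳ η → z = η) → η ⤳ v → V.fromSpecStalk v t₀ = η := by
    intro η hη h
    obtain ⟨t, rfl⟩ : η ∈ Set.range (V.fromSpecStalk v) := by rw [Scheme.range_fromSpecStalk]; exact h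
    exact hη _ (((PrimeSpectrum.le_iff_specializes t₀ t).1 bot_le).map (V.fromSpecStalk v).continuous)
  rw [← key η hη h, ← key η' hη' h']

/-- An open irreducible neighbourhood of a point with domain local ring. -/
theorem exists_irreducible_nhd {V : Scheme.{u}} (hfin : (irreducibleComponents ↥V).Finite) (v : ↥V)
    [IsDomain ↥(V.presheaf.stalk v)] : ∃ O : V.Opens, v ∈ O ∧ IsPreirreducible (O : Set ↥V) := by
  classical
  obtain ⟨η, hη, hηv⟩ := FlatMor.GenericPts.exists_generic_specializes v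
  have hη' : ∀ z, z ⤳ η → z = η := fun z hz =>
    (hz.antisymm ((FlatMor.GenericPts.closure_mem_irreducibleComponents_iff η).1 hη z hz)).eq
  let O : V.Opens := ⟨(⋃₀ (irreducibleComponents ↥V \ {closure {η}}))ᶜ,
    ((hfin.subset Set.sdiff_subset).isClosed_biUnion fun T hT => isClosed_of_mem_irreducibleComponents T hT.1).isOpen_compl
      |> fun h => by rw [Set.sUnion_eq_biUnion]; exact h⟩
  refine ⟨O, fun hv => ?_, ?_⟩
  · obtain ⟨T, ⟨hT, hne⟩, hvT⟩ := hv
    obtain ⟨ξ, hξ⟩ := QuasiSober.sober hT.1 (isClosed_of_mem_irreducibleComponents T hT)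
    refine hne ?_
    have hξc : closure {ξ} ∈ irreducibleComponents ↥V := by rw [hξ.def]; exact hT
    have := eq_of_generic_of_isDomain hη' hηv
      (fun z hz => (hz.antisymm ((FlatMor.GenericPts.closure_mem_irreducibleComponents_iff ξ).1 hξc z hz)).eq)
      (hξ.specializes hvT)
    rw [Set.mem_singleton_iff, this, hξ.def]
  · have hsub : (O : Set ↥V) ⊆ closure {η} := fun z hz => by
      obtain ⟨ξ, hξ, hξz⟩ := FlatMor.GenericPts.exists_generic_specializes z
      by_contra hne
      refine hz ⟨closure {ξ}, ⟨hξ, fun e => hne ?_⟩, specializes_iff_mem_closure.1 hξz⟩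
      rw [← Set.mem_singleton_iff.1 e]
      exact specializes_iff_mem_closure.1 hξz
    exact isIrreducible_singleton.closure.2.open_subset O.2 hsub

/-- Scheme version. -/
theorem isIso_of_birational {P V : Scheme.{u}} (h : P ⟶ V) [IsIntegralHom h] [AlgebraicGeometry.IsReduced P]
    (hN : ∀ t : ↥V, IsDomain ↥(V.presheaf.stalk t) ∧ IsIntegrallyClosed ↥(V.presheaf.stalk t))
    (hfin : (irreducibleComponents ↥V).Finite)
    (hbij : Set.BijOn (fun p : ↥P => h p) {p | ∀ z, z ⤳ p → z = p} {v | ∀ z, z ⤳ v → z = v})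
    (hiso : ∀ p : ↥P, (∀ z, z ⤳ p → z = p) → IsIso (h.stalkMap p)) : IsIso h := by
  haveI : AlgebraicGeometry.IsReduced V := by
    haveI : ∀ t : ↥V, _root_.IsReduced ↥(V.presheaf.stalk t) := fun t => haveI := (hN t).1; inferInstance
    exact isReduced_of_isReduced_stalk V
  choose O hvO hOirr using fun v : ↥V => haveI := (hN v).1; exists_irreducible_nhd hfin v
  refine (IsZariskiLocalAtTarget.iff_of_iSup_eq_top (P := MorphismProperty.isomorphisms Scheme.{u}) O
    (top_le_iff.1 fun v _ => Opens.mem_iSup.2 ⟨v, hvO v⟩)).2 fun v => ?_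
  let O' := O v
  haveI : IrreducibleSpace ↥O'.toScheme :=
    { toPreirreducibleSpace := ⟨by
        have h1 := (hOirr v).preimage O'.ι.isOpenEmbedding
        rw [show O'.ι ⁻¹' (O v : Set ↥V) = Set.univ from Set.eq_univ_of_forall fun z => z.2] at h1
        exact h1⟩
      toNonempty := ⟨⟨v, hvO v⟩⟩ }
  haveI : AlgebraicGeometry.IsReduced O'.toScheme := isReduced_of_isOpenImmersion O'.ι
  haveI : IsIntegral O'.toScheme := isIntegral_of_irreducibleSpace_of_isReduced _
  let η := genericPoint O'.toScheme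
  have hηgen : ∀ z : ↥V, z ⤳ O'.ι η → z = O'.ι η := by
    intro z hz
    obtain ⟨z', rfl⟩ : z ∈ Set.range O'.ι := by
      rw [Scheme.Opens.range_ι]; exact hz.mem_open O'.2 η.2
    exact congrArg _ ((O'.ι.isOpenEmbedding.isInducing.specializes_iff.1 hz).antisymm
      (genericPoint_specializes z')).eq
  have hOuniq : ∀ w : ↥V, w ∈ O' → (∀ z, z ⤳ w → z = w) → w = O'.ι η := fun w hw hmax =>
    ((hmax _ ((genericPoint_specializes (α := ↥O'.toScheme) ⟨w, hw⟩).map O'.ι.continuous))).symm
  obtain ⟨p₀, hp₀, hp₀v⟩ := hbij.surjOn hηgen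
  have hp₀O : p₀ ∈ h ⁻¹ᵁ O' := by
    show h p₀ ∈ O'
    have : h p₀ = O'.ι η := hp₀v
    rw [this]; exact η.2
  let P' := h ⁻¹ᵁ O'
  haveI : AlgebraicGeometry.IsReduced P'.toScheme := isReduced_of_isOpenImmersion P'.ι
  have hdense : ∀ z : ↥P'.toScheme, (⟨p₀, hp₀O⟩ : P'.toScheme) ⤳ z := by
    intro z
    obtain ⟨ξ, hξ, hξz⟩ := FlatMor.GenericPts.exists_generic_specializes (P'.ι z)
    have hξ' : ∀ w, w ⤳ ξ → w = ξ := fun w hw =>
      (hw.antisymm ((FlatMor.GenericPts.closure_mem_irreducibleComponents_iff ξ).1 hξ w hw)).eq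
    have hξO : h ξ ∈ O' := (hξz.map h.continuous).mem_open O'.2 z.2
    have e : ξ = p₀ := hbij.injOn hξ' hp₀ ((hOuniq _ hξO (hbij.mapsTo hξ')).trans hp₀v.symm)
    exact P'.ι.isOpenEmbedding.isInducing.specializes_iff.1 (e ▸ hξz)
  haveI : IrreducibleSpace ↥P'.toScheme :=
    { toPreirreducibleSpace := ⟨by
        have h1 := (isIrreducible_singleton (x := (⟨p₀, hp₀O⟩ : ↥P'.toScheme))).closure.2
        rw [show closure {(⟨p₀, hp₀O⟩ : ↥P'.toScheme)} = Set.univ from
          Set.eq_univ_of_forall fun z => specializes_iff_mem_closure.1 (hdense z)] at h1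
        exact h1⟩
      toNonempty := ⟨⟨p₀, hp₀O⟩⟩ }
  haveI : IsIntegral P'.toScheme := isIntegral_of_irreducibleSpace_of_isReduced _
  let q := genericPoint P'.toScheme
  have hq : q = (⟨p₀, hp₀O⟩ : P'.toScheme) := ((genericPoint_specializes (α := ↥P'.toScheme) _).antisymm (hdense q)).eq
  haveI : IsIntegralHom (h ∣_ O') := MorphismProperty.of_isPullback (P := @IsIntegralHom)
    (isPullback_morphismRestrict h O').flip inferInstance
  have hgq : (h ∣_ O') q = η := by
    apply O'.ι.isOpenEmbedding.injective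
    rw [← Scheme.Hom.comp_apply, morphismRestrict_ι, Scheme.Hom.comp_apply, hq]
    exact hp₀v
  refine NormChar.isIso_of_isIntegralHom (fun y => ?_) _ hgq ?_
  · have : IsIntegrallyClosed ↥(V.presheaf.stalk (O'.ι y)) := (hN _).2
    exact IsIntegrallyClosed.of_equiv (asIso (O'.ι.stalkMap y)).commRingCatIsoToRingEquiv
  · have h1 : IsIso ((P'.ι ≫ h).stalkMap q) := by
      haveI : IsIso (h.stalkMap (P'.ι q)) := hiso _ (by
        rw [hq]; exact hp₀)
      rw [Scheme.Hom.stalkMap_comp]
      infer_instance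
    have key : ∀ {m m' : P'.toScheme ⟶ V}, m = m' → IsIso (m'.stalkMap q) → IsIso (m.stalkMap q) := by
      rintro m m' rfl hm; exact hm
    have h2 : IsIso (((h ∣_ O') ≫ O'.ι).stalkMap q) := key (morphismRestrict_ι h O') h1
    rw [Scheme.Hom.stalkMap_comp] at h2
    exact IsIso.of_isIso_comp_left (O'.ι.stalkMap ((h ∣_ O') q)) _

variable {S : Scheme.{u}}

theorem scheme_generic_iff (T : Over S) (hT : AlgSp.IsDecent ((AlgSp.yon S).obj T)) (t : ↥T.left) :
    AlgSp.Points.ofScheme T t ∈ genericPoints (AlgSp.Points ((AlgSp.yon S).obj T)) ↔ ∀ z, z ⤳ t → z = t := by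
  have h := generic_iff_chart (Z := ⟨(AlgSp.yon S).obj T, AlgSp.IsAlgSpace.yon_obj T⟩) hT
    (c := 𝟙 _) (AlgSp.repWith_id _ _) t
  rwa [AlgSp.Points.ofPt_eq_map_ofScheme, AlgSp.Points.map_id] at h

/-- Birational morphisms between schemes, read on the schemes. -/
theorem scheme_birational {R A : Over S} (h : R ⟶ A) (hR : AlgSp.IsDecent ((AlgSp.yon S).obj R))
    (hA : AlgSp.IsDecent ((AlgSp.yon S).obj A)) (hf : W4stk3decentspacesp2.IsBirational ((AlgSp.yon S).map h)) :
    Set.BijOn (fun p : ↥R.left => h.left p) {p | ∀ z, z ⤳ p → z = p} {v | ∀ z, z ⤳ v → z = v} ∧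
      ∀ p : ↥R.left, (∀ z, z ⤳ p → z = p) → IsIso (h.left.stalkMap p) := by
  have hmap : ∀ p, AlgSp.Points.map ((AlgSp.yon S).map h) (AlgSp.Points.ofScheme R p) =
      AlgSp.Points.ofScheme A (h.left p) := fun p => by
    rw [← AlgSp.Points.ofPt_eq_map_ofScheme, ← Category.comp_id ((AlgSp.yon S).map h), AlgSpB.ofPt_map_comp,
      AlgSp.Points.ofPt_eq_map_ofScheme, AlgSp.Points.map_id]
  refine ⟨⟨fun p hp => ?_, fun p hp p' hp' e => ?_, fun v hv => ?_⟩, fun p hp => ?_⟩
  · have := hf.bijOn.mapsTo ((scheme_generic_iff R hR p).2 hp)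
    rw [hmap] at this
    exact (scheme_generic_iff A hA _).1 this
  · have := hf.bijOn.injOn ((scheme_generic_iff R hR p).2 hp) ((scheme_generic_iff R hR p').2 hp')
      (by rw [hmap, hmap]; exact congrArg _ e)
    simpa using congrArg (AlgSp.Points.toScheme R) this
  · obtain ⟨x, hx, hxv⟩ := hf.bijOn.surjOn ((scheme_generic_iff A hA v).2 hv)
    obtain ⟨p, rfl⟩ : ∃ p, AlgSp.Points.ofScheme R p = x := ⟨_, AlgSp.Points.ofScheme_toScheme R x⟩
    refine ⟨p, (scheme_generic_iff R hR p).1 hx, ?_⟩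
    rw [hmap] at hxv
    simpa using congrArg (AlgSp.Points.toScheme A) hxv
  · obtain ⟨U, V, a, b, g, u, ha, hb, w, hu, hiso⟩ := hf.stalkIso _ ((scheme_generic_iff R hR p).2 hp)
    obtain ⟨i, rfl⟩ := (AlgSp.yon S).map_surjective a
    obtain ⟨e, rfl⟩ := (AlgSp.yon S).map_surjective b
    have hi : IsOpenImmersion i.left := (AlgSp.repWith_yon_map_iff _ _).1 ha
    have he : IsOpenImmersion e.left := (AlgSp.repWith_yon_map_iff _ _).1 hb
    rw [← Functor.map_comp, ← Functor.map_comp] at w
    have hcomm : i ≫ h = g ≫ e := (AlgSp.yon S).map_injective w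
    have hiu : i.left u = p := by
      have := congrArg (AlgSp.Points.toScheme R) hu
      simpa [AlgSp.Points.toScheme_ofPt] using this
    subst hiu
    have key : ∀ {m m' : U.left ⟶ A.left}, m = m' → IsIso (m'.stalkMap u) → IsIso (m.stalkMap u) := by
      rintro m m' rfl hm; exact hm
    have h1 : IsIso ((i.left ≫ h.left).stalkMap u) := by
      refine key (congrArg (fun k => k.left) hcomm) ?_
      show IsIso ((g.left ≫ e.left).stalkMap u)
      haveI := hiso
      rw [Scheme.Hom.stalkMap_comp]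
      infer_instance
    rw [Scheme.Hom.stalkMap_comp] at h1
    exact IsIso.of_isIso_comp_right (h.left.stalkMap (i.left u)) (i.left.stalkMap u)

theorem finite_components_scheme (T : Over S) (hT : AlgSp.IsDecent ((AlgSp.yon S).obj T))
    (hfin : (irreducibleComponents (AlgSp.Points ((AlgSp.yon S).obj T))).Finite) :
    (irreducibleComponents ↥T.left).Finite := by
  have := S10338.result ⟨(AlgSp.yon S).obj T, AlgSp.IsAlgSpace.yon_obj T⟩ hT
  have h1 : {t : ↥T.left | ∀ z, z ⤳ t → z = t}.Finite :=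
    ((genericPoints.finite hfin).preimage fun p _ p' _ e => by
      simpa using congrArg (AlgSp.Points.toScheme T) e).subset fun t ht => (scheme_generic_iff T hT t).2 ht
  refine (h1.image fun t => closure {t}).subset fun C hC => ?_
  obtain ⟨η, hη⟩ := QuasiSober.sober hC.1 (isClosed_of_mem_irreducibleComponents C hC)
  have hηc : closure {η} ∈ irreducibleComponents ↥T.left := by rw [hη.def]; exact hC
  exact ⟨η, fun z hz =>
    (hz.antisymm ((FlatMor.GenericPts.closure_mem_irreducibleComponents_iff η).1 hηc z hz)).eq, hη.def⟩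

theorem isIso_of_integral_birational {X Y : AlgSp.Space S} (f : X ⟶ Y) (hX : AlgSp.IsDecent X.obj)
    (hY : AlgSp.IsDecent Y.obj) (hYf : (irreducibleComponents (AlgSp.Points Y.obj)).Finite)
    (hi : AlgSp.IsIntegralMor f.hom) (hf : W4stk3decentspacesp2.IsBirational f.hom)
    (hYn : AlgSp.EtaleLocally (fun T => ∀ t : ↥T, IsDomain ↥(T.presheaf.stalk t) ∧
      IsIntegrallyClosed ↥(T.presheaf.stalk t)) Y.obj)
    (hXr : AlgSp.EtaleLocally (fun T => AlgebraicGeometry.IsReduced T) X.obj) : IsIso f.hom := by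
  obtain ⟨U, q, hq, hqs, hN⟩ := hYn
  have hir := (AlgSpD.isIntegralMor_iff f.hom).1 hi
  obtain ⟨R, h, c, sq⟩ : ∃ (R : Over S) (h : R ⟶ U) (c : (AlgSp.yon S).obj R ⟶ X.obj),
      IsPullback c ((AlgSp.yon S).map h) f.hom q := ⟨_, _, _, hir.1.isPullback q⟩
  have hce : AlgSp.RepWith @Etale c := MorphismProperty.of_isPullback sq.flip hq
  haveI : IsIntegralHom h.left := hir.2 _ _ _ sq
  haveI : AlgebraicGeometry.IsReduced R.left := AlgSp.SchImageRep.isReduced_chart X.property hXr c hce
  have hiso : IsIso h.left := by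
    refine (IsZariskiLocalAtTarget.iff_of_iSup_eq_top (P := MorphismProperty.isomorphisms Scheme.{u})
      (fun A : U.left.affineOpens => (A : U.left.Opens)) (iSup_affineOpens_eq_top U.left)).2 fun A => ?_
    let o : Over.mk ((A : U.left.Opens).ι ≫ U.hom) ⟶ U := Over.homMk (A : U.left.Opens).ι rfl
    haveI : IsAffine (Over.mk ((A : U.left.Opens).ι ≫ U.hom)).left := A.2
    have hb : AlgSp.RepWith @Etale ((AlgSp.yon S).map o ≫ q) := (AlgSp.RepWith @Etale).comp_mem _ _
      ((AlgSp.repWith_yon_map_iff _ _).2 (inferInstanceAs (Etale (A : U.left.Opens).ι))) hq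
    have sqh := IsPullback.of_hasPullback h o
    have sqA : IsPullback ((AlgSp.yon S).map (pullback.fst h o) ≫ c) ((AlgSp.yon S).map (pullback.snd h o)) f.hom
        ((AlgSp.yon S).map o ≫ q) := (sqh.map (AlgSp.yon S)).paste_horiz sq
    obtain ⟨hd, -, hAf, hbir⟩ := baseChange f hX hY hYf hf _ hb _ _ sqA
    have hAd := AlgSpD.isDecent_of_representable _ hb.1 hY
    obtain ⟨h1, h2⟩ := scheme_birational _ hd hAd hbir
    have eL : IsPullback (pullback.fst h o).left (pullback.snd h o).left h.left o.left := sqh.map (Over.forget S)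
    haveI : IsIntegralHom (pullback.snd h o).left :=
      MorphismProperty.of_isPullback (P := @IsIntegralHom) eL inferInstance
    haveI : IsOpenImmersion (pullback.fst h o).left :=
      MorphismProperty.of_isPullback (P := @IsOpenImmersion) eL.flip (inferInstanceAs (IsOpenImmersion (A : U.left.Opens).ι))
    haveI : AlgebraicGeometry.IsReduced (pullback h o).left := isReduced_of_isOpenImmersion (pullback.fst h o).left
    have hNA : ∀ t : ↥(A : U.left.Opens).toScheme, IsDomain ↥((A : U.left.Opens).toScheme.presheaf.stalk t) ∧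
        IsIntegrallyClosed ↥((A : U.left.Opens).toScheme.presheaf.stalk t) := fun t =>
      ⟨haveI := (hN ((A : U.left.Opens).ι t)).1
       ((asIso ((A : U.left.Opens).ι.stalkMap t)).commRingCatIsoToRingEquiv).symm.injective.isDomain
          ((asIso ((A : U.left.Opens).ι.stalkMap t)).commRingCatIsoToRingEquiv).symm.toRingHom,
       haveI := (hN ((A : U.left.Opens).ι t)).2
       IsIntegrallyClosed.of_equiv (asIso ((A : U.left.Opens).ι.stalkMap t)).commRingCatIsoToRingEquiv⟩
    have : IsIso (pullback.snd h o).left :=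
      isIso_of_birational (V := (Over.mk ((A : U.left.Opens).ι ≫ U.hom)).left) _ hNA
        (finite_components_scheme _ hAd hAf) h1 h2
    have e := IsPullback.isoIsPullback_hom_snd _ _ (isPullback_morphismRestrict h.left A).flip eL
    show IsIso (h.left ∣_ A)
    rw [← e]
    infer_instance
  have hloc : Sheaf.IsLocallySurjective q := Groth.Agent.AlgSp.isLocallySurjective_of_etale_surjective q hq hqs
  have : AlgSp.RepWith (MorphismProperty.isomorphisms Scheme.{u}) f.hom :=
    Groth.Agent.AlgSp.repWith_of_isPullback_of_isLocallySurjective f.hom hir.1 q c ((AlgSp.yon S).map h) sq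
      (MorphismProperty.isomorphisms Scheme.{u}) ((AlgSp.repWith_yon_map_iff _ _).2 hiso)
  exact AlgSpCov.isIso_of_repWith_isomorphisms f.hom this

end Groth.Agent.BirSp
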