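import Groth.Agent.BirSp.Dense
import Groth.Agent.AlgSpCov.QCImmDescent
import Groth.Agent.AlgSp.QCMor
import Groth.Agent.AlgSpB.RedInduced
import Mathlib.AlgebraicGeometry.IdealSheaf.Subscheme

/-!
# Quasi-compact or separated birational morphisms are isomorphisms over a dense open
-/

universe u

open CategoryTheory CategoryTheory.Limits AlgebraicGeometry TopologicalSpace

set_option autoImplicit false
set_option linter.style.haveILetI false
set_option backward.isDefEq.respectTransparency false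

namespace Groth.Agent.BirSp

open Groth.Agent

variable {S : Scheme.{u}}

/-- A section of a separated morphism has closed range. -/
theorem isClosed_range_section {P B : AlgSp.Sp S} (hP : AlgSp.IsAlgSpace P) (snd : P ⟶ B)
    (hsep : AlgSp.IsSeparatedMor snd) (s : B ⟶ P) (hs : s ≫ snd = 𝟙 B) :
    IsClosed (Set.range (AlgSp.Points.map s)) := by
  refine AlgSp.SchImageRep.isClosed_range hP (i := s)
    (MorphismProperty.of_isPullback (P := AlgSp.RepWith @IsClosedImmersion) (f' := s)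
      (g := pullback.diagonal snd) (f := pullback.lift (𝟙 P) (snd ≫ s) (by rw [Category.id_comp, Category.assoc, hs, Category.comp_id]))
      (g' := s) ?_ hsep)
  refine IsPullback.of_isLimit' ⟨?_⟩ (PullbackCone.IsLimit.mk _ (fun c => c.fst ≫ snd) (fun c => ?_) (fun c => ?_)
    fun c m h1 _ => ?_)
  · apply pullback.hom_ext <;> simp [reassoc_of% hs]
  · have e1 := congrArg (fun k => k ≫ pullback.fst snd snd) c.condition
    have e2 := congrArg (fun k => k ≫ pullback.snd snd snd) c.condition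
    simp only [Category.assoc, pullback.lift_fst, pullback.lift_snd, pullback.diagonal_fst, pullback.diagonal_snd,
      Category.comp_id] at e1 e2
    exact (Category.assoc _ _ _).trans ((congrArg (· ≫ snd ≫ s) e1).trans e2.symm)
  · have e1 := congrArg (fun k => k ≫ pullback.fst snd snd) c.condition
    have e2 := congrArg (fun k => k ≫ pullback.snd snd snd) c.condition
    simp only [Category.assoc, pullback.lift_fst, pullback.lift_snd, pullback.diagonal_fst, pullback.diagonal_snd,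
      Category.comp_id] at e1 e2
    exact (Category.assoc _ _ _).trans ((congrArg (· ≫ snd ≫ s) e1).trans (e2.symm.trans e1))
  · exact (Category.comp_id m).symm.trans ((congrArg (m ≫ ·) hs.symm).trans
      ((Category.assoc _ _ _).symm.trans (congrArg (· ≫ snd) h1)))

/-- The points of an open subscheme. -/
theorem range_ofPt_eq {F : AlgSp.Sp S} {U : Over S} (a : (AlgSp.yon S).obj U ⟶ F) :
    Set.range (AlgSp.Points.ofPt a) = Set.range (AlgSp.Points.map a) := by
  ext x
  constructor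
  · rintro ⟨t, rfl⟩
    exact ⟨AlgSp.Points.ofScheme U t, (AlgSp.Points.ofPt_eq_map_ofScheme _ _).symm⟩
  · rintro ⟨z, rfl⟩
    exact ⟨AlgSp.Points.toScheme U z, by rw [AlgSp.Points.ofPt_eq_map_ofScheme, AlgSp.Points.ofScheme_toScheme]⟩

/-- Shrink an isomorphism of open subschemes to an isomorphism of preimages. -/
theorem exists_of_preimage_subset {X Y : AlgSp.Space S} (f : X ⟶ Y) {U V : Over S}
    {a : (AlgSp.yon S).obj U ⟶ X.obj} {b : (AlgSp.yon S).obj V ⟶ Y.obj} {g : U ⟶ V}
    (ha : AlgSp.RepWith @IsOpenImmersion a) (hb : AlgSp.RepWith @IsOpenImmersion b)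
    (w : a ≫ f.hom = (AlgSp.yon S).map g ≫ b) [IsIso g.left] (O : V.left.Opens)
    (hO : ∀ x : AlgSp.Points X.obj, ∀ t ∈ O, AlgSp.Points.map f.hom x = AlgSp.Points.ofPt b t →
      x ∈ Set.range (AlgSp.Points.ofPt a)) :
    ∃ (W : Over S) (o : W ⟶ V), Set.range o.left = (O : Set ↥V.left) ∧
      AlgSp.RepWith @IsOpenImmersion ((AlgSp.yon S).map o ≫ b) ∧
      ∀ ⦃P : AlgSp.Sp S⦄ (fst : P ⟶ X.obj) (snd : P ⟶ (AlgSp.yon S).obj W),
        IsPullback fst snd f.hom ((AlgSp.yon S).map o ≫ b) → IsIso snd := by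
  let o : Over.mk (O.ι ≫ V.hom) ⟶ V := Over.homMk O.ι rfl
  have ho : AlgSp.RepWith @IsOpenImmersion ((AlgSp.yon S).map o) :=
    (AlgSp.repWith_yon_map_iff _ _).2 (inferInstanceAs (IsOpenImmersion O.ι))
  refine ⟨_, o, Scheme.Opens.range_ι O, (AlgSp.RepWith @IsOpenImmersion).comp_mem _ _ ho hb, fun P fst snd sq => ?_⟩
  have := AlgSpB.mono_of_isOpenImmersion ha
  have := AlgSpB.mono_of_isOpenImmersion hb
  have := AlgSpB.mono_of_isOpenImmersion ((AlgSp.RepWith @IsOpenImmersion).comp_mem _ _ ho hb)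
  have : IsIso ((Over.forget S).map g) := ‹IsIso g.left›
  have : IsIso g := isIso_of_reflects_iso g (Over.forget S)
  let σ : (AlgSp.yon S).obj (Over.mk (O.ι ≫ V.hom)) ⟶ P :=
    sq.lift ((AlgSp.yon S).map (o ≫ inv g) ≫ a) (𝟙 _) (by
      rw [Category.assoc, w, ← Category.assoc, ← Functor.map_comp, Category.assoc, IsIso.inv_hom_id,
        Category.comp_id, Category.id_comp])
  refine ⟨σ, ?_, sq.lift_snd _ _ _⟩
  refine sq.hom_ext ?_ (by rw [Category.assoc, sq.lift_snd, Category.comp_id, Category.id_comp])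
  obtain ⟨l, hl⟩ := (AlgSpB.exists_factor_isOpenImmersion_iff ha fst).2 (by
    rintro _ ⟨p, rfl⟩
    rw [← range_ofPt_eq]
    obtain ⟨t, ht⟩ : ∃ t, AlgSp.Points.ofScheme (Over.mk (O.ι ≫ V.hom)) t = AlgSp.Points.map snd p :=
      ⟨_, AlgSp.Points.ofScheme_toScheme _ _⟩
    refine hO _ (o.left t) (show O.ι t ∈ O from t.2) ?_
    rw [← AlgSp.Points.map_comp, sq.w, AlgSp.Points.map_comp, ← ht, ← AlgSp.Points.ofPt_eq_map_ofScheme,
      AlgSpB.ofPt_map_comp])
  have e : l ≫ (AlgSp.yon S).map g = snd ≫ (AlgSp.yon S).map o := by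
    rw [← cancel_mono b, Category.assoc, ← w, reassoc_of% hl, sq.w, Category.assoc]
  rw [Category.assoc, sq.lift_fst, Category.id_comp, Functor.map_comp, Category.assoc, ← reassoc_of% e,
    ← Category.assoc ((AlgSp.yon S).map g), ← Functor.map_comp, IsIso.hom_inv_id, CategoryTheory.Functor.map_id,
    Category.id_comp, hl]

theorem exists_isIso_over {X Y : AlgSp.Space S} (f : X ⟶ Y) (hX : AlgSp.IsDecent X.obj) (hY : AlgSp.IsDecent Y.obj)
    (hXf : (irreducibleComponents (AlgSp.Points X.obj)).Finite)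
    (hYf : (irreducibleComponents (AlgSp.Points Y.obj)).Finite)
    (hf : W4stk3decentspacesp2.IsBirational f.hom)
    (h₁ : AlgSp.IsQuasiCompactMor f.hom ∨ AlgSp.IsSeparatedMor f.hom)
    (h₂ : (AlgSp.LocP @LocallyOfFiniteType f.hom ∧ AlgSp.EtaleLocally (fun T => IsReduced T) Y.obj) ∨
      AlgSp.LocP @LocallyOfFinitePresentation f.hom) :
    ∃ (V : Over S) (b : (AlgSp.yon S).obj V ⟶ Y.obj), AlgSp.RepWith @IsOpenImmersion b ∧
      Dense (Set.range (AlgSp.Points.ofPt b)) ∧
        ∀ ⦃P : AlgSp.Sp S⦄ (fst : P ⟶ X.obj) (snd : P ⟶ (AlgSp.yon S).obj V),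
          IsPullback fst snd f.hom b → IsIso snd := by
  have := S10338.result Y hY
  obtain ⟨U, V, a, b, g, ha, hb, -, -, w, hg, hgen⟩ := exists_dense_iso f hX hY hXf hYf hf h₂
  haveI := hg
  have := AlgSpB.mono_of_isOpenImmersion ha
  have := AlgSpB.mono_of_isOpenImmersion hb
  have hbe := etale_of_open hb
  -- an open subset of `V` over which the preimage lies in `U`, containing the generic points
  suffices ∃ O : V.left.Opens, (∀ y ∈ genericPoints (AlgSp.Points Y.obj), ∃ t ∈ O, AlgSp.Points.ofPt b t = y) ∧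
      ∀ x : AlgSp.Points X.obj, ∀ t ∈ O, AlgSp.Points.map f.hom x = AlgSp.Points.ofPt b t →
        x ∈ Set.range (AlgSp.Points.ofPt a) by
    obtain ⟨O, hO1, hO2⟩ := this
    obtain ⟨W, o, hor, hW, hiso⟩ := exists_of_preimage_subset f ha hb w O hO2
    refine ⟨W, _, hW, fun y => ?_, hiso⟩
    obtain ⟨η, hη, hηy⟩ := exists_generic_specializes hY y
    obtain ⟨t, htO, ht⟩ := hO1 η hη
    obtain ⟨t', rfl⟩ : t ∈ Set.range o.left := hor ▸ htO
    have hmem : η ∈ Set.range (AlgSp.Points.ofPt ((AlgSp.yon S).map o ≫ b)) :=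
      ⟨t', by rw [AlgSpB.ofPt_map_comp, ht]⟩
    exact closure_mono (Set.singleton_subset_iff.2 hmem) (specializes_iff_mem_closure.1 hηy)
  have hVgen : ∀ y ∈ genericPoints (AlgSp.Points Y.obj), ∃ t, AlgSp.Points.ofPt b t = y := by
    intro y hy
    obtain ⟨x, hx, rfl⟩ := hf.bijOn.surjOn hy
    obtain ⟨t, rfl⟩ := hgen x hx
    exact ⟨g.left t, by rw [AlgSp.Points.map_ofPt, w, AlgSpB.ofPt_map_comp]⟩
  rcases h₁ with hqc | hsep
  · -- quasi-compact: remove the closure of the image of the complement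
    have key : ∀ y ∈ genericPoints (AlgSp.Points Y.obj), ∃ O : V.left.Opens,
        (∃ t ∈ O, AlgSp.Points.ofPt b t = y) ∧ ∀ x : AlgSp.Points X.obj, ∀ t ∈ O,
          AlgSp.Points.map f.hom x = AlgSp.Points.ofPt b t → x ∈ Set.range (AlgSp.Points.ofPt a) := by
      intro y hy
      obtain ⟨v, hv⟩ := hVgen y hy
      obtain ⟨A, hA, hvA, -⟩ := exists_isAffineOpen_mem_and_subset (X := V.left) (x := v) (U := ⊤) trivial
      let oA : Over.mk (A.ι ≫ V.hom) ⟶ V := Over.homMk A.ι rfl
      haveI : IsAffine (Over.mk (A.ι ≫ V.hom)).left := hA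
      have sq := IsPullback.of_hasPullback f.hom ((AlgSp.yon S).map oA ≫ b)
      have hP := Groth.Agent.AlgSp.isAlgSpace_of_isPullback' Y.property X.property (AlgSp.IsAlgSpace.yon_obj _) sq
      have := Groth.Agent.AlgSp.compactSpace_points
        (hqc (AlgSp.IsAlgSpace.yon_obj _) (Groth.Agent.AlgSp.isQuasiCompactSp_yon (Over.mk (A.ι ≫ V.hom))) _ _ _ sq)
      obtain ⟨A', p, hp, hps⟩ := hP.atlas
      obtain ⟨W, e, hW, hpe, hpes⟩ := AlgSpB.exists_affine_chart_of_compactSpace hp hps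
      obtain ⟨hh, hhh⟩ := (AlgSp.yon S).map_surjective
        (((AlgSp.yon S).map e ≫ p) ≫ pullback.snd f.hom ((AlgSp.yon S).map oA ≫ b))
      let cX := ((AlgSp.yon S).map e ≫ p) ≫ pullback.fst f.hom ((AlgSp.yon S).map oA ≫ b)
      have hK : IsClosed (AlgSp.Points.ofPt cX ⁻¹' Set.range (AlgSp.Points.ofPt a))ᶜ :=
        (((AlgSpB.isOpenMap_ofPt (etale_of_open ha)).isOpen_range).preimage
          (AlgSp.Points.continuous_ofPt cX)).isClosed_compl
      let C : Closeds W.left := ⟨_, hK⟩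
      let Z := (Scheme.IdealSheafData.vanishingIdeal C).subscheme
      let ι := (Scheme.IdealSheafData.vanishingIdeal C).subschemeι
      have hr : Set.range ι = (C : Set ↥W.left) := Groth.Agent.RedSub.range_vanishingIdeal_subschemeι C
      haveI : CompactSpace ↥W.left := inferInstance
      haveI : CompactSpace ↥Z := (Scheme.IdealSheafData.vanishingIdeal C).subschemeι.isClosedEmbedding.compactSpace
      let h' : Z ⟶ A.toScheme := ι ≫ hh.left
      have hcl : (⟨v, hvA⟩ : A.toScheme) ∉ closure (Set.range h') := by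
        intro hmem
        haveI : IsAffine A.toScheme := hA
        obtain ⟨z, hz⟩ := AlgSpCov.exists_specializes_of_mem_closure_range h' hmem
        have hcy : AlgSp.Points.map f.hom (AlgSp.Points.ofPt cX (ι z)) =
            AlgSp.Points.ofPt b (A.ι (h' z)) := by
          rw [AlgSp.Points.map_ofPt]
          simp only [cX, Category.assoc, sq.w]
          rw [← Category.assoc p, ← Category.assoc ((AlgSp.yon S).map e), ← Category.assoc ((AlgSp.yon S).map e), ← hhh,
            AlgSpB.ofPt_map_comp, AlgSpB.ofPt_map_comp]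
          rfl
        have hgen' : A.ι (h' z) = v :=
          generization_eq hY hbe (hv ▸ hy) (hz.map A.ι.continuous)
        rw [hgen', hv] at hcy
        obtain ⟨U', V', a', b', g', u', -, -, -, -, hxg, -, huniq⟩ := exists_fibre f hX hY hf y hy
        have h1 : AlgSp.Points.ofPt cX (ι z) ∈ Set.range (AlgSp.Points.ofPt a) :=
          huniq _ hcy ▸ hgen _ hxg
        exact (show ι z ∈ (C : Set ↥W.left) from hr ▸ ⟨z, rfl⟩) h1
      let O : V.left.Opens := A.ι ''ᵁ ⟨(closure (Set.range h'))ᶜ, isClosed_closure.isOpen_compl⟩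
      refine ⟨O, ⟨v, ⟨⟨v, hvA⟩, hcl, rfl⟩, hv⟩, ?_⟩
      rintro x _ ⟨t, ht, rfl⟩ hx
      obtain ⟨q, hq1, hq2⟩ := AlgSpB.exists_of_isPullback sq.flip (AlgSp.Points.ofScheme (Over.mk (A.ι ≫ V.hom)) t) x
        (by rw [← AlgSp.Points.ofPt_eq_map_ofScheme, AlgSpB.ofPt_map_comp]; exact hx.symm)
      obtain ⟨k, rfl⟩ := AlgSpB.surjective_ofPt hpes q
      rw [AlgSp.Points.map_ofPt] at hq1 hq2
      rw [← hhh] at hq1
      by_contra hxU
      obtain ⟨z, hz⟩ : k ∈ Set.range ι := by
        rw [hr]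
        show ¬ AlgSp.Points.ofPt cX k ∈ Set.range (AlgSp.Points.ofPt a)
        rw [hq2]
        exact hxU
      refine ht (subset_closure ⟨z, ?_⟩)
      show hh.left (ι z) = t
      have e1 := congrArg (AlgSp.Points.toScheme (Over.mk (A.ι ≫ V.hom))) hq1
      rw [AlgSp.Points.toScheme_ofPt, AlgSp.Points.toScheme_ofScheme] at e1
      rw [hz]; exact e1
    choose O hO1 hO2 using key
    refine ⟨⨆ (y) (hy : y ∈ genericPoints (AlgSp.Points Y.obj)), O y hy, fun y hy => ?_, fun x t ht hx => ?_⟩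
    · obtain ⟨t, ht, ht'⟩ := hO1 y hy
      exact ⟨t, Opens.mem_iSup.2 ⟨y, Opens.mem_iSup.2 ⟨hy, ht⟩⟩, ht'⟩
    · obtain ⟨y, ht⟩ := Opens.mem_iSup.1 ht
      obtain ⟨hy, ht⟩ := Opens.mem_iSup.1 ht
      exact hO2 y hy x t ht hx
  · -- separated
    refine ⟨⊤, fun y hy => ?_, fun x t _ hx => ?_⟩
    · obtain ⟨t, ht⟩ := hVgen y hy
      exact ⟨t, trivial, ht⟩
    have sq := IsPullback.of_hasPullback f.hom b
    have hP := Groth.Agent.AlgSp.isAlgSpace_of_isPullback' Y.property X.property (AlgSp.IsAlgSpace.yon_obj _) sq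
    have : IsIso ((Over.forget S).map g) := ‹IsIso g.left›
    have : IsIso g := isIso_of_reflects_iso g (Over.forget S)
    let s : (AlgSp.yon S).obj V ⟶ pullback f.hom b := pullback.lift ((AlgSp.yon S).map (inv g) ≫ a) (𝟙 _) (by
      rw [Category.assoc, w, ← Category.assoc, ← Functor.map_comp, IsIso.inv_hom_id,
        CategoryTheory.Functor.map_id])
    have hcl := isClosed_range_section hP (pullback.snd f.hom b)
      (MorphismProperty.of_isPullback (P := (AlgSp.RepWith @IsClosedImmersion).diagonal) sq hsep) s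
      (pullback.lift_snd _ _ _)
    obtain ⟨p, hp1, -⟩ := AlgSpB.exists_of_isPullback sq x (AlgSp.Points.ofScheme V t)
      (by rw [← AlgSp.Points.ofPt_eq_map_ofScheme, hx])
    obtain ⟨η, hη, hηx⟩ := exists_generic_specializes hX x
    have hfi : AlgSp.RepWith @IsOpenImmersion (pullback.fst f.hom b) := MorphismProperty.of_isPullback sq.flip hb
    have := AlgSpB.mono_of_isOpenImmersion hfi
    have hpdec : AlgSp.IsDecent (pullback f.hom b) := AlgSpD.isDecent_of_representable _ hfi.1 hX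
    obtain ⟨W, c, k, hc, rfl⟩ := AlgSpD.exists_chart (⟨_, hP⟩ : AlgSp.Space S) p
    rw [AlgSp.Points.map_ofPt] at hp1
    obtain ⟨k', hk', hk'η⟩ := AlgSpD.exists_lift_of_specializes X hX (c ≫ pullback.fst f.hom b)
      ((AlgSp.RepWith @Etale).comp_mem _ _ hc (etale_of_open hfi)) k η (hp1 ▸ hηx)
    obtain ⟨s₀, hs₀⟩ := hgen η hη
    have hmem : AlgSp.Points.ofPt c k' ∈ Set.range (AlgSp.Points.map s) := by
      refine ⟨AlgSp.Points.ofScheme V (g.left s₀), AlgSpB.injective_map_of_mono (pullback.fst f.hom b) ?_⟩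
      rw [← AlgSp.Points.map_comp, pullback.lift_fst, ← AlgSp.Points.ofPt_eq_map_ofScheme, AlgSp.Points.map_ofPt,
        hk'η, AlgSpB.ofPt_map_comp, ← hs₀]
      congr 1
      rw [← Scheme.Hom.comp_apply, ← Over.comp_left, IsIso.hom_inv_id]
      rfl
    obtain ⟨z, hz⟩ := (hk'.map (AlgSp.Points.continuous_ofPt c)).mem_closed hcl hmem
    rw [← hp1, ← AlgSp.Points.map_ofPt, ← hz, ← AlgSp.Points.map_comp, pullback.lift_fst]
    exact range_ofPt_eq a ▸ ⟨_, (AlgSp.Points.map_comp _ _ _).symm⟩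

end Groth.Agent.BirSp
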