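import Groth.Agent.CycLib.SchemeDim
import Groth.Prelude.Def_Dual3
import Mathlib.RingTheory.Ideal.GoingUp
import Mathlib.RingTheory.AlgebraicIndependent.Transcendental
import Mathlib.AlgebraicGeometry.PullbackCarrier
import Mathlib.AlgebraicGeometry.Morphisms.Preimmersion
import Mathlib.AlgebraicGeometry.Morphisms.OpenImmersion
import Groth.Agent.GrpdLib.DimOnePts

/-!
# Birationality at a generic point: scheme lemmas
-/

universe u

open CategoryTheory CategoryTheory.Limits AlgebraicGeometry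

set_option autoImplicit false
set_option linter.style.haveILetI false
set_option backward.isDefEq.respectTransparency false

namespace Groth.Agent.BirSp

open Groth.Agent

theorem resTrdeg_eq_zero_of_surjective_stalkMap {Y Z : Scheme.{u}} (j : Y ⟶ Z) (y : Y)
    (h : Function.Surjective (j.stalkMap y)) : Dual3.resTrdeg j y = 0 := by
  unfold Dual3.resTrdeg
  letI := (j.residueFieldMap y).hom.toAlgebra
  have hs : Function.Surjective (j.residueFieldMap y).hom := fun z => by
    obtain ⟨w, rfl⟩ := Y.residue_surjective y z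
    obtain ⟨v, rfl⟩ := h w
    exact ⟨Z.residue (j y) v, (ConcreteCategory.congr_hom (Scheme.residue_residueFieldMap j y) v :)⟩
  haveI : Algebra.IsAlgebraic (Z.residueField (j y)) (Y.residueField y) :=
    ⟨fun z => by
      obtain ⟨v, rfl⟩ := hs z
      exact isAlgebraic_algebraMap v⟩
  exact trdeg_eq_zero

/-- A point with algebraic residue extension has no proper specialization in its fibre. -/
theorem eq_of_specializes_of_resTrdeg_zero {Q V : Scheme.{u}} (g : Q ⟶ V) {q₀ q : Q} (h : q₀ ⤳ q)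
    (hg : g q₀ = g q) (h0 : Dual3.resTrdeg g q₀ = 0) : q₀ = q := by
  obtain ⟨W, hW, hqW, -⟩ := exists_isAffineOpen_mem_and_subset (X := V) (x := g q) (U := ⊤) trivial
  obtain ⟨A, hA, hqA, hAW⟩ := exists_isAffineOpen_mem_and_subset (X := Q) (x := q) (U := g ⁻¹ᵁ W) hqW
  have hA' : A ≤ g ⁻¹ᵁ W := hAW
  have hq₀A : q₀ ∈ A := h.mem_open A.2 hqA
  have hq₀W : g q₀ ∈ W := hA' hq₀A
  letI := (g.appLE W A hA').hom.toAlgebra
  let P₀ := hW.primeIdealOf ⟨g q₀, hq₀W⟩
  let p₀ := hA.primeIdealOf ⟨q₀, hq₀A⟩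
  let p := hA.primeIdealOf ⟨q, hqA⟩
  haveI hlo : p₀.asIdeal.LiesOver P₀.asIdeal := CycLib.liesOver_primeIdealOf g hW hA hA' hq₀A
  have hlo' := CycLib.liesOver_primeIdealOf g hW hA hA' hqA
  have hle : p₀ ≤ p := (CycLib.primeIdealOf_le_iff hA _ _).2 (by
    rwa [hA.fromSpec_primeIdealOf, hA.fromSpec_primeIdealOf])
  have hPP : P₀ = hW.primeIdealOf ⟨g q, hA' hqA⟩ := congrArg hW.primeIdealOf (Subtype.ext hg)
  by_contra hne
  have hlt : p₀ < p := lt_of_le_of_ne hle fun e => hne (by
    have := congrArg hA.fromSpec e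
    rwa [hA.fromSpec_primeIdealOf, hA.fromSpec_primeIdealOf] at this)
  obtain ⟨x, hxp, hxp₀⟩ := SetLike.exists_of_lt (show p₀.asIdeal < p.asIdeal from hlt)
  have htr : Algebra.trdeg (Γ(V, W) ⧸ P₀.asIdeal) (Γ(Q, A) ⧸ p₀.asIdeal) = 0 :=
    (CycLib.trdeg_residueField_eq g hW hA hA' hq₀A).trans h0
  haveI : FaithfulSMul (Γ(V, W) ⧸ P₀.asIdeal) (Γ(Q, A) ⧸ p₀.asIdeal) := inferInstance
  haveI : Algebra.IsAlgebraic (Γ(V, W) ⧸ P₀.asIdeal) (Γ(Q, A) ⧸ p₀.asIdeal) := trdeg_eq_zero_iff.1 htr
  have hxne : Ideal.Quotient.mk p₀.asIdeal x ≠ 0 := fun e => hxp₀ (Ideal.Quotient.eq_zero_iff_mem.1 e)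
  have hmem : Ideal.Quotient.mk p₀.asIdeal x ∈ p.asIdeal.map (Ideal.Quotient.mk p₀.asIdeal) :=
    Ideal.mem_map_of_mem _ hxp
  refine Ideal.comap_ne_bot_of_algebraic_mem hxne hmem
    (Algebra.IsAlgebraic.isAlgebraic (R := Γ(V, W) ⧸ P₀.asIdeal) _) ?_
  rw [eq_bot_iff]
  intro r hr
  obtain ⟨r, rfl⟩ := Ideal.Quotient.mk_surjective r
  rw [Ideal.mem_comap, Ideal.Quotient.algebraMap_mk_of_liesOver] at hr
  have hr' : algebraMap Γ(V, W) Γ(Q, A) r ∈ p.asIdeal := by
    obtain ⟨s, hs, hse⟩ := (Ideal.mem_map_iff_of_surjective _ Ideal.Quotient.mk_surjective).1 hr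
    rw [Ideal.Quotient.mk_eq_mk_iff_sub_mem] at hse
    have := p.asIdeal.sub_mem hs (hle hse)
    rwa [sub_sub_cancel] at this
  rw [Ideal.mem_bot, Ideal.Quotient.eq_zero_iff_mem, hPP]
  rw [hlo'.over]
  exact hr'

/-- A preimmersion from a one-point scheme is the spectrum of its local ring. -/
theorem isIso_fromSpecStalk_of_subsingleton {Q : Scheme.{u}} [Subsingleton ↥Q] (q : Q) :
    IsIso (Q.fromSpecStalk q) := by
  have : IsOpenImmersion (Q.fromSpecStalk q) := IsOpenImmersion.iff_isIso_stalkMap.2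
    ⟨⟨(Q.fromSpecStalk q).isEmbedding, by
      have : Set.range (Q.fromSpecStalk q) = Set.univ :=
        Set.eq_univ_of_forall fun z => ⟨IsLocalRing.closedPoint _, Subsingleton.elim _ _⟩
      rw [this]; exact isOpen_univ⟩, fun t => GrpdLib.DimOnePts.isIso_stalkMap_fromSpecStalk q t⟩
  have : Surjective (Q.fromSpecStalk q) := ⟨fun z => ⟨IsLocalRing.closedPoint _, Subsingleton.elim _ _⟩⟩
  exact isIso_of_isOpenImmersion_of_opensRange_eq_top _ (top_le_iff.1 fun z _ => Surjective.surj z)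

theorem isIso_snd_fromSpecStalk {U V : Scheme.{u}} (g : U ⟶ V) (u : U) [IsIso (g.stalkMap u)]
    (hfib : ∀ z : U, g z ⤳ g u → z = u) : IsIso (pullback.snd g (V.fromSpecStalk (g u))) := by
  let σ : Spec (V.presheaf.stalk (g u)) ⟶ pullback g (V.fromSpecStalk (g u)) :=
    pullback.lift (Spec.map (inv (g.stalkMap u)) ≫ U.fromSpecStalk u) (𝟙 _) (by
      rw [Category.assoc, ← Scheme.SpecMap_stalkMap_fromSpecStalk, ← Spec.map_comp_assoc,
        IsIso.hom_inv_id, Spec.map_id, Category.id_comp])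
  let fst := pullback.fst g (V.fromSpecStalk (g u))
  have hfst : IsPreimmersion fst := MorphismProperty.pullback_fst (P := @IsPreimmersion) _ _
    (inferInstanceAs (IsPreimmersion (V.fromSpecStalk (g u))))
  have hrange : ∀ t, fst t = u := fun t => by
    refine hfib _ ?_
    have : fst t ∈ g ⁻¹' Set.range (V.fromSpecStalk (g u)) := by
      rw [← Scheme.Pullback.range_fst]; exact ⟨t, rfl⟩
    rwa [Set.mem_preimage, Scheme.range_fromSpecStalk] at this
  haveI : Subsingleton ↥(pullback g (V.fromSpecStalk (g u))) :=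
    ⟨fun s t => fst.isEmbedding.injective ((hrange s).trans (hrange t).symm)⟩
  let t₀ := σ (IsLocalRing.closedPoint _)
  haveI := isIso_fromSpecStalk_of_subsingleton t₀
  have hfac : inv ((pullback g (V.fromSpecStalk (g u))).fromSpecStalk t₀) ≫
      Spec.map (fst.stalkMap t₀) ≫ U.fromSpecStalk (fst t₀) = fst := by
    rw [Scheme.SpecMap_stalkMap_fromSpecStalk, IsIso.inv_hom_id_assoc]
  obtain ⟨r, hr⟩ : ∃ r : pullback g (V.fromSpecStalk (g u)) ⟶ Spec (U.presheaf.stalk u),
      r ≫ U.fromSpecStalk u = fst := by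
    have key : ∀ x, fst t₀ = x → ∃ r : pullback g (V.fromSpecStalk (g u)) ⟶ Spec (U.presheaf.stalk x),
        r ≫ U.fromSpecStalk x = fst := by
      rintro x rfl
      exact ⟨_, (Category.assoc _ _ _).trans hfac⟩
    exact key u (hrange t₀)
  have hrs : r ≫ Spec.map (g.stalkMap u) = pullback.snd g (V.fromSpecStalk (g u)) := by
    rw [← cancel_mono (V.fromSpecStalk (g u)), Category.assoc, Scheme.SpecMap_stalkMap_fromSpecStalk,
      ← Category.assoc, hr]
    exact pullback.condition
  refine ⟨σ, ?_, pullback.lift_snd _ _ _⟩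
  apply pullback.hom_ext
  · rw [Category.assoc, pullback.lift_fst, Category.id_comp, ← hrs, Category.assoc, ← Spec.map_comp_assoc,
      IsIso.inv_hom_id, Spec.map_id, Category.id_comp, hr]
  · rw [Category.assoc, pullback.lift_snd, Category.comp_id, Category.id_comp]

/-- A morphism from a scheme with a section through a point, both sides monomorphisms, induces an iso on stalks. -/
theorem isIso_stalkMap_of_isIso_snd {U V : Scheme.{u}} (g : U ⟶ V) (u : U)
    [IsIso (pullback.snd g (V.fromSpecStalk (g u)))] : IsIso (g.stalkMap u) := by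
  let σ := inv (pullback.snd g (V.fromSpecStalk (g u))) ≫ pullback.fst g (V.fromSpecStalk (g u))
  let l : Spec (U.presheaf.stalk u) ⟶ pullback g (V.fromSpecStalk (g u)) :=
    pullback.lift (U.fromSpecStalk u) (Spec.map (g.stalkMap u)) (Scheme.SpecMap_stalkMap_fromSpecStalk g).symm
  have h1 : Spec.map (g.stalkMap u) ≫ σ = U.fromSpecStalk u := by
    have e : Spec.map (g.stalkMap u) = l ≫ pullback.snd g (V.fromSpecStalk (g u)) := (pullback.lift_snd _ _ _).symm
    simp only [σ, e, Category.assoc, IsIso.hom_inv_id_assoc]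
    exact pullback.lift_fst _ _ _
  have h2 : σ ≫ g = V.fromSpecStalk (g u) := by
    simp only [σ, Category.assoc, pullback.condition, IsIso.inv_hom_id_assoc]
  have hpt : σ (IsLocalRing.closedPoint _) = u := by
    have := congrArg (fun k => k (IsLocalRing.closedPoint (U.presheaf.stalk u))) h1
    simp only [Scheme.Hom.comp_apply, Scheme.fromSpecStalk_closedPoint] at this
    exact (congrArg σ (IsLocalRing.comap_closedPoint (g.stalkMap u).hom).symm).trans this
  obtain ⟨r, hr⟩ : ∃ r : Spec (V.presheaf.stalk (g u)) ⟶ Spec (U.presheaf.stalk u), r ≫ U.fromSpecStalk u = σ := by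
    have hσ := (Scheme.Spec_stalkClosedPointTo_fromSpecStalk σ)
    have key : ∀ x, σ (IsLocalRing.closedPoint _) = x →
        ∃ r : Spec (V.presheaf.stalk (g u)) ⟶ Spec (U.presheaf.stalk x), r ≫ U.fromSpecStalk x = σ := by
      rintro x rfl
      exact ⟨_, hσ⟩
    exact key u hpt
  have : IsIso (Spec.map (g.stalkMap u)) := ⟨r, by
    rw [← cancel_mono (U.fromSpecStalk u), Category.assoc, hr, h1, Category.id_comp], by
    rw [← cancel_mono (V.fromSpecStalk (g u)), Category.assoc, Scheme.SpecMap_stalkMap_fromSpecStalk,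
      ← Category.assoc, hr, h2, Category.id_comp]⟩
  haveI : IsIso (Scheme.Spec.map (g.stalkMap u).op) := this
  haveI : IsIso (g.stalkMap u).op := isIso_of_fully_faithful Scheme.Spec _
  exact isIso_of_op _

end Groth.Agent.BirSp
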