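import Groth.Agent.BirSp.Sch
import Groth.Agent.AlgSpD.DecentDim
import Groth.Agent.AlgSpD.RelDim
import Groth.Agent.AlgSpB.Open
import Groth.Prelude.Def_W4stk3decentspacesp2Birat

/-!
# Birational morphisms of decent spaces over generic points
-/

universe u

open CategoryTheory CategoryTheory.Limits AlgebraicGeometry TopologicalSpace

set_option autoImplicit false
set_option linter.style.haveILetI false
set_option backward.isDefEq.respectTransparency false

namespace Groth.Agent.BirSp

open Groth.Agent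

variable {S : Scheme.{u}}

theorem eq_of_specializes_generic {P : Type*} [TopologicalSpace P] [T0Space P] {y z : P}
    (hy : y ∈ genericPoints P) (h : z ⤳ y) : z = y :=
  (h.antisymm (specializes_iff_closure_subset.2
    (hy.2 isIrreducible_singleton.closure (specializes_iff_closure_subset.1 h)))).eq

theorem exists_generic_specializes {X : AlgSp.Space S} (hX : AlgSp.IsDecent X.obj) (x : AlgSp.Points X.obj) :
    ∃ η ∈ genericPoints (AlgSp.Points X.obj), η ⤳ x := by
  have := S10339.result X hX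
  let T : irreducibleComponents (AlgSp.Points X.obj) :=
    ⟨irreducibleComponent x, irreducibleComponent_mem_irreducibleComponents x⟩
  exact ⟨_, (genericPoints.ofComponent T).2,
    (genericPoints.isGenericPoint_ofComponent T).specializes mem_irreducibleComponent⟩

theorem etale_of_open {F G : AlgSp.Sp S} {j : F ⟶ G} (h : AlgSp.RepWith @IsOpenImmersion j) :
    AlgSp.RepWith @Etale j :=
  Groth.Agent.AlgSp.repWith_mono (Q := @Etale) (fun g (_ : IsOpenImmersion g) => inferInstance) h

theorem generization_eq {Y : AlgSp.Space S} (hY : AlgSp.IsDecent Y.obj) {V : Over S}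
    {b : (AlgSp.yon S).obj V ⟶ Y.obj} (hb : AlgSp.RepWith @Etale b) {v z : ↥V.left}
    (hv : AlgSp.Points.ofPt b v ∈ genericPoints (AlgSp.Points Y.obj)) (h : z ⤳ v) : z = v := by
  have := S10338.result Y hY
  exact (S10340.result Y hY b hb v z (eq_of_specializes_generic hv (h.map (AlgSp.Points.continuous_ofPt b))).symm
    h).symm

/-- Over a generic point, a birational morphism has a single point, where it induces an isomorphism of local rings. -/
theorem exists_fibre {X Y : AlgSp.Space S} (f : X ⟶ Y) (hX : AlgSp.IsDecent X.obj) (hY : AlgSp.IsDecent Y.obj)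
    (hf : W4stk3decentspacesp2.IsBirational f.hom) (y : AlgSp.Points Y.obj) (hy : y ∈ genericPoints (AlgSp.Points Y.obj)) :
    ∃ (U V : Over S) (a : (AlgSp.yon S).obj U ⟶ X.obj) (b : (AlgSp.yon S).obj V ⟶ Y.obj) (g : U ⟶ V) (u : ↥U.left),
      AlgSp.RepWith @IsOpenImmersion a ∧ AlgSp.RepWith @IsOpenImmersion b ∧
        a ≫ f.hom = (AlgSp.yon S).map g ≫ b ∧ AlgSp.Points.ofPt b (g.left u) = y ∧
        AlgSp.Points.ofPt a u ∈ genericPoints (AlgSp.Points X.obj) ∧ IsIso (g.left.stalkMap u) ∧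
        ∀ x' : AlgSp.Points X.obj, AlgSp.Points.map f.hom x' = y → x' = AlgSp.Points.ofPt a u := by
  have := S10338.result Y hY
  obtain ⟨x₀, hx₀, rfl⟩ := hf.bijOn.surjOn hy
  obtain ⟨U, V, a, b, g, u, ha, hb, w, rfl, hiso⟩ := hf.stalkIso x₀ hx₀
  have hbu : AlgSp.Points.ofPt b (g.left u) = AlgSp.Points.map f.hom (AlgSp.Points.ofPt a u) := by
    rw [AlgSp.Points.map_ofPt, w, AlgSpB.ofPt_map_comp]
  refine ⟨U, V, a, b, g, u, ha, hb, w, hbu, hx₀, hiso, fun x' hx' => ?_⟩
  have hb' := etale_of_open hb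
  have h0 : AlgSp.HasAtMor (fun _ _ h u => Dual3.resTrdeg h u = 0) f.hom (AlgSp.Points.ofPt a u) :=
    (AlgSpD.hasAtMor_iff_chart (AlgSpD.morEtaleInv_resTrdeg 0) f (etale_of_open ha) hb' w u).2
      (resTrdeg_eq_zero_of_surjective_stalkMap g.left u
        ((ConcreteCategory.isIso_iff_bijective (g.left.stalkMap u)).1 hiso).2)
  obtain ⟨η, hη, hηx⟩ := exists_generic_specializes hX x'
  have hfη : AlgSp.Points.map f.hom η = AlgSp.Points.map f.hom (AlgSp.Points.ofPt a u) :=
    eq_of_specializes_generic hy (hx' ▸ hηx.map (AlgSp.Points.continuous_map f.hom))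
  have hηu : η = AlgSp.Points.ofPt a u := hf.bijOn.injOn hη hx₀ hfη
  subst hηu
  obtain ⟨W, c, z, hc, rfl⟩ := AlgSpD.exists_chart X x'
  obtain ⟨R, p, h, r, hpc, hp, wR, rfl, hr⟩ := AlgSpD.exists_diagram_over f hc z hb'
    (v := g.left u) (hbu.trans hx'.symm)
  obtain ⟨r₀, hr₀, hr₀x⟩ := AlgSpD.exists_lift_of_specializes X hX _ hpc r (AlgSp.Points.ofPt a u)
    (by rw [AlgSpB.ofPt_map_comp]; exact hηx)
  have e : h.left r₀ = h.left r := by
    rw [hr]
    have := AlgSpB.mono_of_isOpenImmersion hb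
    have e1 : AlgSp.Points.map b (AlgSp.Points.ofScheme V (h.left r₀)) =
        AlgSp.Points.map b (AlgSp.Points.ofScheme V (g.left u)) := by
      rw [← AlgSp.Points.ofPt_eq_map_ofScheme, ← AlgSp.Points.ofPt_eq_map_ofScheme, hbu, ← hr₀x,
        AlgSp.Points.map_ofPt, wR, AlgSpB.ofPt_map_comp]
    exact (AlgSp.Points.toScheme_ofScheme V _).symm.trans
      ((congrArg _ (AlgSpB.injective_map_of_mono b e1)).trans (AlgSp.Points.toScheme_ofScheme V _))
  have h1 : Dual3.resTrdeg h.left r₀ = 0 :=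
    (AlgSpD.hasAtMor_iff_chart (AlgSpD.morEtaleInv_resTrdeg 0) f hpc hb' wR r₀).1 (hr₀x.symm ▸ h0)
  rw [← hr₀x, eq_of_specializes_of_resTrdeg_zero h.left hr₀ e h1, AlgSpB.ofPt_map_comp]

/-- Points of the spectrum of a local ring at a generic point. -/
theorem specStalk_apply {Y : AlgSp.Space S} (hY : AlgSp.IsDecent Y.obj) {V : Over S}
    {b : (AlgSp.yon S).obj V ⟶ Y.obj} (hb : AlgSp.RepWith @Etale b) {v : ↥V.left}
    (hv : AlgSp.Points.ofPt b v ∈ genericPoints (AlgSp.Points Y.obj))
    (t : ↥(Spec (V.left.presheaf.stalk v))) : V.left.fromSpecStalk v t = v := by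
  refine generization_eq hY hb hv ?_
  have : V.left.fromSpecStalk v t ∈ Set.range (V.left.fromSpecStalk v) := ⟨t, rfl⟩
  rwa [Scheme.range_fromSpecStalk] at this

end Groth.Agent.BirSp
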